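import Cfsg.Agent.S0215
import Cfsg.Agent.Schreier.Basic
import Cfsg.Agent.Schreier.Tools
import Cfsg.Agent.LFourA.OddFree
import Cfsg.Agent.PermutationGroups.OnanScott
import Cfsg.Agent.SignalizersComponents.QsBasic
import Cfsg.Agent.H850.Cod.Basic
import Cfsg.Agent.H794.SocleCount
import Cfsg.Agent.H189.FeitTits
import Cfsg.Agent.Lib.MinNormalNonabelian
import Cfsg.Agent.FastGrp
import Cfsg.Agent.Prune
set_option linter.all false

section
prune_inst 0x7f00000000000000000000000000000000000000000000000000000000000000000000000000000000000000000000000000000000000000000000000000000000000000000000000000000000000000003ffffffffffffffffffffff7ffffbeffbdffffffff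

-- part: H310/PerfTools
section
prune_inst 0x8000000000000000000
set_option linter.all false
open scoped Cfsg.Agent.FastGrp

/-!
# Tools for perfect groups with a unique minimal normal subgroup
-/

set_option autoImplicit false

namespace Cfsg.Agent.H310.PerfTools

open Subgroup

/-- Homomorphisms from a perfect group to a solvable group are trivial. -/
theorem hom_eq_one {G B : Type*} [Group G] [Group B] [hB : Group.IsSolvable B] (hG : commutator G = ⊤)
    (f : G →* B) (g : G) : f g = 1 := by
  have h1 : ∀ n : ℕ, derivedSeries G n = ⊤ := by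
    intro n
    induction n with
    | zero => rfl
    | succ n ih => rw [derivedSeries_succ, ih]; exact hG
  obtain ⟨n, hn⟩ := hB.solvable
  have h2 := map_derivedSeries_le_derivedSeries f n
  rw [h1 n, hn, le_bot_iff] at h2
  have h3 : f g ∈ (⊤ : Subgroup G).map f := ⟨g, Subgroup.mem_top g, rfl⟩
  rwa [h2, Subgroup.mem_bot] at h3

/-- A perfect group has no subgroup of index two. -/
theorem index_ne_two {G : Type*} [Group G] (hG : commutator G = ⊤) (H : Subgroup G) : H.index ≠ 2 := by
  intro h
  have h1 : commutator G ≤ H := by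
    rw [commutator_def, Subgroup.commutator_le]
    intro a _ b _
    rw [commutatorElement_def, Subgroup.mul_mem_iff_of_index_two h, Subgroup.mul_mem_iff_of_index_two h,
      Subgroup.mul_mem_iff_of_index_two h, Subgroup.inv_mem_iff, Subgroup.inv_mem_iff]
    tauto
  rw [hG, top_le_iff] at h1
  rw [h1, Subgroup.index_top] at h
  omega

/-- If the conjugates of `T` are among `T`, `T'` in a perfect group then `T` is normal. -/
theorem normal_of_two {G : Type*} [Group G] (hG : commutator G = ⊤) (T T' : Subgroup G)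
    (h : ∀ g : G, T.map (MulAut.conj g).toMonoidHom = T ∨ T.map (MulAut.conj g).toMonoidHom = T') :
    ∀ g : G, T.map (MulAut.conj g).toMonoidHom = T := by
  by_contra hcon
  push Not at hcon
  obtain ⟨a, ha⟩ := hcon
  have ha' := (h a).resolve_left ha
  have hmul : ∀ (g k : G) (U : Subgroup G), U.map (MulAut.conj (g * k)).toMonoidHom =
      (U.map (MulAut.conj k).toMonoidHom).map (MulAut.conj g).toMonoidHom := by
    intro g k U
    rw [Subgroup.map_map]
    congr 1
    ext x
    simp [mul_assoc]
  have hone : ∀ U : Subgroup G, U.map (MulAut.conj (1 : G)).toMonoidHom = U := by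
    intro U
    rw [map_one]
    exact Subgroup.map_id U
  let H : Subgroup G :=
    { carrier := {g | T.map (MulAut.conj g).toMonoidHom = T}
      mul_mem' := by
        intro x y hx hy
        change T.map (MulAut.conj (x * y)).toMonoidHom = T
        rw [hmul, hy, hx]
      one_mem' := hone T
      inv_mem' := by
        intro x hx
        change T.map (MulAut.conj x⁻¹).toMonoidHom = T
        have hx' : T.map (MulAut.conj x).toMonoidHom = T := hx
        conv_lhs => rw [← hx']
        rw [← hmul, inv_mul_cancel, hone] }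
  have hHm : ∀ g, g ∈ H ↔ T.map (MulAut.conj g).toMonoidHom = T := fun g => Iff.rfl
  apply index_ne_two hG H
  rw [Subgroup.index_eq_two_iff]
  refine ⟨a, fun b => ?_⟩
  have hkey : ∀ x y : G, x ∉ H → y ∉ H → x⁻¹ * y ∈ H := by
    intro x y hx hy
    rw [hHm]
    have hx' := (h x).resolve_left hx
    have hy' := (h y).resolve_left hy
    rw [hmul, hy', ← hx', ← hmul, inv_mul_cancel, hone]
  by_cases hb : b ∈ H
  · right
    exact ⟨hb, fun hba => ha ((H.mul_mem_cancel_left hb).1 hba)⟩
  · left
    have h1 := hkey b⁻¹ a (fun h => hb (H.inv_mem_iff.1 h)) ha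
    rw [inv_inv] at h1
    exact ⟨h1, hb⟩

/-- A simple group of even order with trivial centre contains a four-group. -/
theorem exists_four {T : Type*} [Group T] [Finite T] [hs : IsSimpleGroup T] (hna : ∃ a b : T, a * b ≠ b * a)
    (h2 : 2 ∣ Nat.card T) : ∃ V : Subgroup T, Nat.card V = 4 ∧ ∀ x ∈ V, x * x = 1 := by
  classical
  have hp : Fact (Nat.Prime 2) := ⟨Nat.prime_two⟩
  obtain ⟨P⟩ : Nonempty (Sylow 2 T) := inferInstance
  have hPne : Nontrivial P := by
    rw [← Finite.one_lt_card_iff_nontrivial]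
    have h3 : 2 ∣ Nat.card P := P.dvd_card_of_dvd_card h2
    exact Nat.le_of_dvd Nat.card_pos h3
  have hcn := P.isPGroup'.center_nontrivial
  obtain ⟨w, hw2⟩ : ∃ w : Subgroup.center P, orderOf w = 2 := by
    apply exists_prime_orderOf_dvd_card'
    have h3 : IsPGroup 2 (Subgroup.center P) := P.isPGroup'.to_subgroup _
    obtain ⟨n, hn⟩ := IsPGroup.iff_card.1 h3
    have h4 : 1 < Nat.card (Subgroup.center P) := Finite.one_lt_card_iff_nontrivial.2 hcn
    rw [hn] at h4 ⊢
    have : n ≠ 0 := by rintro rfl; simp at h4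
    exact dvd_pow_self 2 this
  set c : T := ((w : P) : T) with hc
  have hcP : c ∈ (P : Subgroup T) := (w : P).2
  have hc2 : orderOf c = 2 := by
    rw [hc, Subgroup.orderOf_coe, Subgroup.orderOf_coe, hw2]
  have hcc : c * c = 1 := by
    have := pow_orderOf_eq_one c
    rwa [hc2, pow_two] at this
  have hc1 : c ≠ 1 := by
    intro h
    rw [h, orderOf_one] at hc2
    omega
  have hccomm : ∀ x ∈ (P : Subgroup T), c * x = x * c := by
    intro x hx
    have h3 := Subgroup.mem_center_iff.1 w.2 ⟨x, hx⟩
    exact (congrArg Subtype.val h3).symm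
  by_cases hv : ∃ v ∈ (P : Subgroup T), v * v = 1 ∧ v ≠ 1 ∧ v ≠ c
  · obtain ⟨v, hvP, hvv, hv1, hvc⟩ := hv
    have hcv := hccomm v hvP
    let V : Subgroup T :=
      { carrier := {1, c, v, c * v}
        mul_mem' := by
          intro x y hx hy
          have e1 : v * c = c * v := hcv.symm
          have e2 : c * v * c = v := by rw [mul_assoc, e1, ← mul_assoc, hcc, one_mul]
          have e3 : c * (c * v) = v := by rw [← mul_assoc, hcc, one_mul]
          have e4 : v * (c * v) = c := by rw [← mul_assoc, e1, mul_assoc, hvv, mul_one]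
          have e5 : c * v * v = c := by rw [mul_assoc, hvv, mul_one]
          have e6 : c * v * (c * v) = 1 := by rw [← mul_assoc, e2, hvv]
          simp only [Set.mem_insert_iff, Set.mem_singleton_iff] at hx hy ⊢
          rcases hx with rfl | rfl | rfl | rfl <;> rcases hy with rfl | rfl | rfl | rfl <;>
            simp [e1, e2, e3, e4, e5, e6, hcc, hvv]
        one_mem' := by simp
        inv_mem' := by
          intro x hx
          have ec : c⁻¹ = c := inv_eq_of_mul_eq_one_left hcc
          have ev : v⁻¹ = v := inv_eq_of_mul_eq_one_left hvv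
          simp only [Set.mem_insert_iff, Set.mem_singleton_iff] at hx ⊢
          rcases hx with rfl | rfl | rfl | rfl
          · simp
          · simp [ec]
          · simp [ev]
          · rw [mul_inv_rev, ec, ev, ← hcv]; simp }
    have hVset : (V : Set T) = {1, c, v, c * v} := rfl
    refine ⟨V, ?_, ?_⟩
    · rw [← SetLike.coe_sort_coe, Nat.card_coe_set_eq, hVset, Set.ncard_insert_of_notMem,
        Set.ncard_insert_of_notMem, Set.ncard_insert_of_notMem, Set.ncard_singleton]
      · simp only [Set.mem_singleton_iff]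
        intro h
        exact hc1 (by simpa using h.symm)
      · simp only [Set.mem_insert_iff, Set.mem_singleton_iff]
        rintro (h | h)
        · exact hvc h.symm
        · exact hv1 (by simpa using h.symm)
      · simp only [Set.mem_insert_iff, Set.mem_singleton_iff]
        rintro (h | h | h)
        · exact hc1 h.symm
        · exact hv1 h.symm
        · apply hvc
          have : c * 1 = c * (c * v) := by rw [← h]
          rw [← mul_assoc, hcc, one_mul, mul_one] at this
          exact this.symm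
    · intro x hx
      have hx' : x ∈ ({1, c, v, c * v} : Set T) := hx
      simp only [Set.mem_insert_iff, Set.mem_singleton_iff] at hx'
      rcases hx' with rfl | rfl | rfl | rfl
      · exact one_mul 1
      · exact hcc
      · exact hvv
      · rw [mul_assoc, ← mul_assoc v, ← hcv, mul_assoc, hvv, mul_one, hcc]
  · exfalso
    push Not at hv
    obtain ⟨N, hN, hNodd, hNc⟩ := Cfsg.Agent.S0215.result P c hc2 hcP (by
      intro g hg
      apply hv _ hg
      · calc g * c * g⁻¹ * (g * c * g⁻¹) = g * (c * c) * g⁻¹ := by group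
          _ = 1 := by rw [hcc]; group
      · intro h
        apply hc1
        have : c = g⁻¹ * (g * c * g⁻¹) * g := by group
        rw [this, h]; group)
    rcases hN.eq_bot_or_eq_top with h | h
    · have hcen : c ∈ Subgroup.center T := by
        rw [Subgroup.mem_center_iff]
        intro g
        have h3 := hNc g
        rw [h, Subgroup.mem_bot, mul_inv_eq_one, mul_inv_eq_iff_eq_mul] at h3
        exact h3.symm
      rcases (inferInstance : (Subgroup.center T).Normal).eq_bot_or_eq_top with h3 | h3
      · rw [h3, Subgroup.mem_bot] at hcen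
        exact hc1 hcen
      · obtain ⟨a, b, hab⟩ := hna
        apply hab
        have : b ∈ Subgroup.center T := by rw [h3]; exact Subgroup.mem_top b
        exact Subgroup.mem_center_iff.1 this a
    · rw [h, Subgroup.card_top] at hNodd
      exact (Nat.not_even_iff_odd.2 hNodd) (even_iff_two_dvd.2 h2)

/-- A non-abelian minimal normal subgroup of a perfect group in which every nontrivial normal subgroup contains the
involution `t` and elementary abelian 2-subgroups have order at most 63 is simple. -/
theorem simple_of_nonabelian {G : Type*} [Group G] [Finite G] (hG : commutator G = ⊤) (N : Subgroup G)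
    [N.Normal] (hmin : ∀ M : Subgroup G, M.Normal → M ≤ N → M = ⊥ ∨ M = N)
    (hna : ¬ ∀ x ∈ N, ∀ y ∈ N, Commute x y) {t : G} (ht1 : t ≠ 1) (htt : t * t = 1) (htN : t ∈ N)
    (hrank : ∀ E : Subgroup G, (∀ x ∈ E, x * x = 1) → Nat.card E < 64) : IsSimpleGroup N := by
  classical
  obtain ⟨m, T, e, hm, hsimp, hnab, hinj, hTN, hnorm, hperm, htrans, hsingle, hcoord⟩ :=
    Cfsg.Agent.PermutationGroups.OnanScott.exists_coordinates N hmin hna
  have hp : Fact (Nat.Prime 2) := ⟨Nat.prime_two⟩
  -- each factor has even order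
  have hcardT : ∀ i j, Nat.card (T i) = Nat.card (T j) := by
    intro i j
    obtain ⟨g, hg⟩ := htrans j i
    rw [hg]
    exact (Nat.card_congr ((T j).equivMapOfInjective _ (MulAut.conj g).injective).toEquiv).symm
  have heven : ∀ i, 2 ∣ Nat.card (T i) := by
    intro i
    have h1 : 2 ∣ Nat.card N := by
      have h3 : orderOf (⟨t, htN⟩ : N) = 2 := by
        apply orderOf_eq_prime
        · rw [pow_two]; exact Subtype.ext htt
        · intro h; exact ht1 (congrArg Subtype.val h)
      rw [← h3]; exact orderOf_dvd_natCard _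
    rw [Nat.card_congr e.toEquiv, Nat.card_pi] at h1
    obtain ⟨j, -, hj⟩ := (Nat.Prime.prime Nat.prime_two).exists_mem_finset_dvd h1
    rw [hcardT i j]; exact hj
  have hV : ∀ i, ∃ V : Subgroup (T i), Nat.card V = 4 ∧ ∀ x ∈ V, x * x = 1 := by
    intro i
    have := hsimp i
    exact exists_four (hnab i) (heven i)
  choose V hV4 hV2 using hV
  -- the product of the four-groups
  let E₀ : Subgroup (∀ i, T i) := Subgroup.pi Set.univ V
  have hE₀ : Nat.card E₀ = 4 ^ m := by
    have h1 : Nat.card E₀ = Nat.card (∀ i, V i) := by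
      apply Nat.card_congr
      exact
        { toFun := fun x i => ⟨x.1 i, (Subgroup.mem_pi _).1 x.2 i (Set.mem_univ i)⟩
          invFun := fun x => ⟨fun i => (x i).1, (Subgroup.mem_pi _).2 fun i _ => (x i).2⟩
          left_inv := fun x => rfl
          right_inv := fun x => rfl }
    rw [h1, Nat.card_pi]
    simp [hV4]
  let E : Subgroup G := (E₀.comap e.toMonoidHom).map N.subtype
  have hEcard : Nat.card E = 4 ^ m := by
    rw [← hE₀]
    have h1 : Nat.card E = Nat.card (E₀.comap e.toMonoidHom) :=
      (Nat.card_congr ((E₀.comap e.toMonoidHom).equivMapOfInjective _ N.subtype_injective).toEquiv).symm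
    rw [h1]
    exact Nat.card_congr ((e.toEquiv.subtypeEquiv (fun x => Iff.rfl)))
  have hE2 : ∀ x ∈ E, x * x = 1 := by
    rintro _ ⟨x, hx, rfl⟩
    have h1 : x * x = 1 := by
      apply e.injective
      rw [map_mul, map_one]
      funext i
      have h2 : e x ∈ E₀ := hx
      exact hV2 i _ ((Subgroup.mem_pi _).1 h2 i (Set.mem_univ i))
    change (x : G) * x = 1
    exact congrArg Subtype.val h1
  have hm2 : m ≤ 2 := by
    by_contra hcon
    have h1 := hrank E hE2
    rw [hEcard] at h1
    have h2 : 4 ^ 3 ≤ 4 ^ m := Nat.pow_le_pow_right (by norm_num) (by omega)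
    omega
  have hmone : m = 1 := by
    by_contra hcon
    have hm' : m = 2 := by omega
    subst hm'
    have h1 := normal_of_two hG (T 0) (T 1) (by
      intro g
      obtain ⟨j, hj⟩ := hperm g 0
      rw [← hj]
      have : j = 0 ∨ j = 1 := by omega
      rcases this with rfl | rfl
      · exact Or.inl rfl
      · exact Or.inr rfl)
    obtain ⟨g, hg⟩ := htrans 0 1
    rw [h1 g] at hg
    exact absurd (hinj hg) (by decide)
  subst hmone
  have hNT : N ≤ T 0 := by
    intro n hn
    have h1 : (e.symm (Pi.mulSingle 0 (e ⟨n, hn⟩ 0)) : N) = ⟨n, hn⟩ := by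
      apply e.injective
      rw [MulEquiv.apply_symm_apply]
      funext i
      have : i = 0 := Subsingleton.elim _ _
      subst this
      rw [Pi.mulSingle_eq_same]
    have h2 := hsingle 0 (e ⟨n, hn⟩ 0)
    rw [h1] at h2
    have h3 : n = (e ⟨n, hn⟩ 0 : G) := h2
    rw [h3]
    exact (e ⟨n, hn⟩ 0).2
  have hNeq : N = T 0 := le_antisymm hNT (hTN 0)
  rw [hNeq]
  exact hsimp 0

/-- A simple normal subgroup with the Schreier property and trivial centralizer in a perfect group is the whole
group. -/
theorem eq_top_of_schreier {G : Type*} [Group G] (hG : commutator G = ⊤) (N : Subgroup G) [N.Normal]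
    (hC : Subgroup.centralizer (N : Set G) = ⊥) (hS : Cfsg.Agent.Schreier.Basic.Sch N) : N = ⊤ := by
  let φ : G →* MulAut N := MulAut.conjNormal
  have h1 : ⁅(⊤ : Subgroup G).map φ, (⊤ : Subgroup G).map φ⁆ = (⊤ : Subgroup G).map φ :=
    Cfsg.Agent.Schreier.Basic.map_perfect φ hG
  have h2 := hS _ h1
  rw [eq_top_iff]
  intro g _
  obtain ⟨n, hn⟩ := h2 ⟨g, Subgroup.mem_top g, rfl⟩
  have h3 : (n : G)⁻¹ * g ∈ Subgroup.centralizer (N : Set G) := by
    rw [Subgroup.mem_centralizer_iff]
    intro x hx
    have h4 : (MulAut.conj n : MulAut N) ⟨x, hx⟩ = φ g ⟨x, hx⟩ := by rw [hn]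
    have h5 : (n : G) * x * (n : G)⁻¹ = g * x * g⁻¹ := congrArg Subtype.val h4
    have h6 : g * x = (n : G) * x * (n : G)⁻¹ * g := by rw [h5]; group
    calc x * ((n : G)⁻¹ * g) = (n : G)⁻¹ * ((n : G) * x * (n : G)⁻¹ * g) := by group
      _ = (n : G)⁻¹ * (g * x) := by rw [h6]
      _ = (n : G)⁻¹ * g * x := by group
  rw [hC, Subgroup.mem_bot, inv_mul_eq_one] at h3
  rw [← h3]
  exact n.2

end Cfsg.Agent.H310.PerfTools
end

-- part: H850/Cod/Reduce
section
set_option linter.all false
open scoped Cfsg.Agent.FastGrp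

-- part: H850/Cod/Kernel
section
/-!
# Codegrees inside the codegrees of a simple group (helper850, S3539): the kernel

(after helper495's `H495.Cod.Kernel`)  `G` perfect with `CodOK L G`, `M` a minimal normal subgroup, `G / M ≃* L`:
* `uniq` : every nontrivial normal subgroup contains `M`;
* `sq_dvd` : `|M|² ∣ |L|`;
* `above` : the irreducible characters of `G` not containing `M` in their kernel have degree `|M| d`, `d` the degree of a
  nontrivial irreducible character of `L`, and the sum of the squares is `|L| (|M| - 1)`.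
-/

set_option autoImplicit false
set_option linter.unusedSectionVars false

universe u v

namespace Cfsg.Agent.H850.Cod

open Cfsg Cfsg.Agent.Characters.Core Cfsg.Agent.H686.CharKit Subgroup

variable {L : Type v} [Group L] [Finite L] [IsSimpleGroup L] {G : Type u} [Group G] [Finite G]

theorem card_eq (M : Subgroup G) [M.Normal] (e : G ⧸ M ≃* L) :
    Nat.card G = Nat.card M * Nat.card L := by
  rw [Subgroup.card_eq_card_quotient_mul_card_subgroup M, Nat.card_congr e.toEquiv, mul_comm]

/-- faithful characters -/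
theorem faithful_deg (h : CodOK L G) (M : Subgroup G) [M.Normal] (e : G ⧸ M ≃* L)
    {χ : IrrCharacter G} (hχ : (χ : G → ℂ) ≠ 1) (hk : chKer χ = ⊥) :
    ∃ d, NDeg L d ∧ charDegree (χ : G → ℂ) = Nat.card M * d := by
  obtain ⟨d, hd, h1⟩ := h χ hχ
  refine ⟨d, hd, ?_⟩
  rw [card_ker, hk, Subgroup.card_bot, one_mul, card_eq M e] at h1
  have h2 : Nat.card L * (Nat.card M * d) = Nat.card L * charDegree (χ : G → ℂ) := by
    rw [← h1]; ring
  exact (Nat.eq_of_mul_eq_mul_left ((Nat.card_pos (α := L))) h2).symm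

theorem faithful_lt (hL : ¬ ∀ a b : L, a * b = b * a) (h : CodOK L G) (M : Subgroup G) [M.Normal] (e : G ⧸ M ≃* L)
    {χ : IrrCharacter G} (hχ : (χ : G → ℂ) ≠ 1) (hk : chKer χ = ⊥) : Nat.card M < Nat.card L := by
  obtain ⟨d, hd, h1⟩ := faithful_deg h M e hχ hk
  have h2 := sq_lt χ hχ
  have hd1 := (hd.facts hL).1
  rw [h1, card_eq M e] at h2
  by_contra hne
  rw [not_lt] at hne
  have h3 : Nat.card M * Nat.card L ≤ Nat.card M * Nat.card M := Nat.mul_le_mul_left _ hne
  have h4 : Nat.card M * Nat.card M ≤ (Nat.card M * d) ^ 2 := by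
    rw [mul_pow, sq]
    exact Nat.le_mul_of_pos_right _ (pow_pos (by omega) 2)
  omega

/-- a normal subgroup not contained in `M` together with `M` is everything -/
theorem sup_eq_top (M : Subgroup G) [M.Normal] (e : G ⧸ M ≃* L) (K : Subgroup G)
    [hK : K.Normal] (h : ¬ K ≤ M) : K ⊔ M = ⊤ := by
  have hs : IsSimpleGroup (G ⧸ M) := e.isSimpleGroup
  have hn' : (K.map (QuotientGroup.mk' M)).Normal := hK.map _ (QuotientGroup.mk'_surjective M)
  rcases hn'.eq_bot_or_eq_top with h1 | h1
  · exfalso
    apply h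
    rw [Subgroup.map_eq_bot_iff, QuotientGroup.ker_mk'] at h1
    exact h1
  · have h2 := congrArg (Subgroup.comap (QuotientGroup.mk' M)) h1
    rw [Subgroup.comap_map_eq, QuotientGroup.ker_mk', Subgroup.comap_top] at h2
    exact h2

theorem card_of_compl (M : Subgroup G) [M.Normal] (e : G ⧸ M ≃* L) (K : Subgroup G)
    [hK : K.Normal] (h1 : K ≠ ⊥) (h2 : K ⊓ M = ⊥) : K ⊔ M = ⊤ ∧ Nat.card K = Nat.card L := by
  have h3 : K ⊔ M = ⊤ := by
    apply sup_eq_top M e
    intro h
    rw [inf_eq_left.2 h] at h2
    exact h1 h2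
  refine ⟨h3, ?_⟩
  have h4 : Subgroup.IsComplement' K M := by
    rw [Subgroup.isComplement'_def]
    exact Subgroup.isComplement'_of_disjoint_and_mul_eq_univ (disjoint_iff.2 h2) (by
      rw [← Subgroup.mul_normal, h3]; rfl)
  have h5 := h4.card_mul_card
  rw [card_eq M e, mul_comm] at h5
  exact Nat.eq_of_mul_eq_mul_left Nat.card_pos h5

/-- the sum of the squares of the degrees of the characters with `N` in the kernel -/
theorem sum_sq_ker (N : Subgroup G) [N.Normal] [Fintype (IrrCharacter G)] [DecidablePred fun χ : IrrCharacter G => N ≤ chKer χ] :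
    ∑ χ ∈ (Finset.univ.filter fun χ : IrrCharacter G => N ≤ chKer χ), charDegree (χ : G → ℂ) ^ 2 = Nat.card (G ⧸ N) := by
  classical
  have := finite_irr (G := G ⧸ N)
  have := Fintype.ofFinite (IrrCharacter (G ⧸ N))
  rw [← sum_deg_sq (G := G ⧸ N)]
  symm
  refine Finset.sum_bij (fun ψ _ => infl N ψ) ?_ ?_ ?_ ?_
  · intro ψ _
    rw [Finset.mem_filter]
    exact ⟨Finset.mem_univ _, le_chKer_infl N ψ⟩
  · intro a _ b _ hab
    exact infl_injective N hab
  · intro χ hχ
    obtain ⟨ψ, hψ⟩ := exists_infl N χ (Finset.mem_filter.1 hχ).2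
    exact ⟨ψ, Finset.mem_univ _, hψ⟩
  · intro ψ _
    rfl

theorem quot_simple {K M : Subgroup G} [hK : K.Normal] [hM : M.Normal] (hKM : K ⊓ M = ⊥) (hT : K ⊔ M = ⊤) (hM1 : M ≠ ⊥)
    (hmin : ∀ J : Subgroup G, J.Normal → J ≤ M → J = ⊥ ∨ J = M) : IsSimpleGroup (G ⧸ K) := by
  have hcard : Nat.card K * Nat.card M = Nat.card G := by
    have h4 : Subgroup.IsComplement' K M := by
      rw [Subgroup.isComplement'_def]
      exact Subgroup.isComplement'_of_disjoint_and_mul_eq_univ (disjoint_iff.2 hKM) (by
        rw [← Subgroup.mul_normal, hT]; rfl)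
    exact h4.card_mul_card
  have hMc : 1 < Nat.card M := Subgroup.one_lt_card_iff_ne_bot _ |>.2 hM1
  have hq : Nat.card (G ⧸ K) = Nat.card M := by
    have := Subgroup.card_eq_card_quotient_mul_card_subgroup K
    rw [← hcard, mul_comm] at this
    exact (Nat.eq_of_mul_eq_mul_right Nat.card_pos this).symm
  have : Nontrivial (G ⧸ K) := by
    rw [← Finite.one_lt_card_iff_nontrivial, hq]
    exact hMc
  refine ⟨fun J hJ => ?_⟩
  have hJ' : (J.comap (QuotientGroup.mk' K)).Normal := hJ.comap _
  have hKJ : K ≤ J.comap (QuotientGroup.mk' K) := by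
    intro x hx
    rw [Subgroup.mem_comap, QuotientGroup.mk'_apply, (QuotientGroup.eq_one_iff x).2 hx]
    exact J.one_mem
  rcases hmin (J.comap (QuotientGroup.mk' K) ⊓ M) inferInstance inf_le_right with h | h
  · left
    have h5 : J.comap (QuotientGroup.mk' K) = K := by
      symm
      apply Subgroup.eq_of_le_of_card_ge hKJ
      have h6 : Nat.card (J.comap (QuotientGroup.mk' K)) * Nat.card M ≤ Nat.card G := by
        have h7 : Function.Injective (fun x : (J.comap (QuotientGroup.mk' K)) × M => (x.1 : G) * (x.2 : G)) := by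
          rintro ⟨a, b⟩ ⟨c, d⟩ hab
          have h8 : (a : G) * b = c * d := hab
          have h9 : (c : G)⁻¹ * a = d * (b : G)⁻¹ := by
            rw [inv_mul_eq_iff_eq_mul, ← mul_assoc, ← h8, mul_inv_cancel_right]
          have h10 : (c : G)⁻¹ * a ∈ J.comap (QuotientGroup.mk' K) ⊓ M :=
            ⟨(J.comap (QuotientGroup.mk' K)).mul_mem ((J.comap (QuotientGroup.mk' K)).inv_mem c.2) a.2,
              by rw [h9]; exact M.mul_mem d.2 (M.inv_mem b.2)⟩
          rw [h, Subgroup.mem_bot] at h10
          have h11 : (a : G) = c := (inv_mul_eq_one.1 h10).symm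
          have h12 : (b : G) = d := by rw [h11] at h8; exact mul_left_cancel h8
          exact Prod.ext (Subtype.ext h11) (Subtype.ext h12)
        have h8 := Nat.card_le_card_of_injective _ h7
        rwa [Nat.card_prod] at h8
      rw [← hcard] at h6
      exact Nat.le_of_mul_le_mul_right h6 Nat.card_pos
    have h6 := Subgroup.map_comap_eq_self_of_surjective (QuotientGroup.mk'_surjective K) J
    rw [← h6, h5, Subgroup.map_eq_bot_iff, QuotientGroup.ker_mk']
  · right
    have h5 : M ≤ J.comap (QuotientGroup.mk' K) := by rw [← h]; exact inf_le_left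
    have h6 : J.comap (QuotientGroup.mk' K) = ⊤ := by
      rw [eq_top_iff, ← hT]
      exact sup_le hKJ h5
    have h7 := Subgroup.map_comap_eq_self_of_surjective (QuotientGroup.mk'_surjective K) J
    rw [← h7, h6, ← MonoidHom.range_eq_map, MonoidHom.range_eq_top]
    exact QuotientGroup.mk'_surjective K

/-- quotients of perfect groups -/
theorem perfect_quot {K : Subgroup G} [K.Normal] (hp : commutator G = ⊤) : commutator (G ⧸ K) = ⊤ := by
  have h1 := Subgroup.map_commutator (⊤ : Subgroup G) ⊤ (QuotientGroup.mk' K)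
  rw [← MonoidHom.range_eq_map, MonoidHom.range_eq_top.2 (QuotientGroup.mk'_surjective K)] at h1
  rw [commutator_def, ← h1, ← commutator_def, hp, ← MonoidHom.range_eq_map,
    MonoidHom.range_eq_top.2 (QuotientGroup.mk'_surjective K)]

/-- every nontrivial normal subgroup contains `M` -/
theorem uniq (hL : ¬ ∀ a b : L, a * b = b * a) (h : CodOK L G) (hp : commutator G = ⊤)
    (hS : ∀ (S : Type u) [Group S] [Finite S] [IsSimpleGroup S], ¬ (∀ a b : S, a * b = b * a) → CodOK L S →
      Nat.card S = Nat.card L)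
    (M : Subgroup G) [hM : M.Normal] (e : G ⧸ M ≃* L) (hM1 : M ≠ ⊥)
    (hmin : ∀ J : Subgroup G, J.Normal → J ≤ M → J = ⊥ ∨ J = M) (K : Subgroup G) (hK : K.Normal) (hK1 : K ≠ ⊥) :
    M ≤ K := by
  classical
  by_contra hMK
  have hKM : K ⊓ M = ⊥ := by
    rcases hmin (K ⊓ M) inferInstance inf_le_right with h1 | h1
    · exact h1
    · exact absurd (inf_eq_right.1 h1) hMK
  obtain ⟨hT, hcK⟩ := card_of_compl M e K hK1 hKM
  have hs := quot_simple hKM hT hM1 hmin
  have hna : ¬ ∀ a b : G ⧸ K, a * b = b * a := by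
    intro hc
    have h1 := perfect_quot (K := K) hp
    have h2 : commutator (G ⧸ K) = ⊥ := by
      rw [commutator_eq_bot_iff_center_eq_top, eq_top_iff]
      intro x _
      rw [Subgroup.mem_center_iff]
      exact fun y => hc y x
    rw [h1] at h2
    exact top_ne_bot h2
  have hcod : CodOK L (G ⧸ K) := h.of_surj (QuotientGroup.mk' K) (QuotientGroup.mk'_surjective K)
  have h1 := hS (G ⧸ K) hna hcod
  have hcG := card_eq M e
  have hcM : Nat.card M = Nat.card L := by
    have h2 := Subgroup.card_eq_card_quotient_mul_card_subgroup K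
    rw [h1, hcK, hcG] at h2
    exact Nat.eq_of_mul_eq_mul_right ((Nat.card_pos (α := L))) h2
  have hqM : Nat.card (G ⧸ M) = Nat.card L := Nat.card_congr e.toEquiv
  have hA : 3 ≤ Nat.card L := by
    have h0 : 0 < Nat.card L := Nat.card_pos
    by_contra hne
    have h2 : Nat.card L = 1 ∨ Nat.card L = 2 := by omega
    rcases h2 with h2 | h2
    · have h3 : Subsingleton L := (Nat.card_eq_one_iff_unique.1 h2).1
      exact hL fun a b => Subsingleton.elim _ _
    · have : Fact (Nat.Prime 2) := ⟨Nat.prime_two⟩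
      have h3 : IsCyclic L := isCyclic_of_prime_card h2
      exact hL fun a b => (IsCyclic.isMulCommutative (α := L)).is_comm.comm a b
  -- a character with neither `K` nor `M` in the kernel
  have := finite_irr (G := G)
  have := Fintype.ofFinite (IrrCharacter G)
  obtain ⟨χ, hχK, hχM⟩ : ∃ χ : IrrCharacter G, ¬ K ≤ chKer χ ∧ ¬ M ≤ chKer χ := by
    by_contra hcon
    push Not at hcon
    have h2 := sum_deg_sq (G := G)
    have h3 : ∑ χ : IrrCharacter G, charDegree (χ : G → ℂ) ^ 2 ≤
        ∑ χ ∈ (Finset.univ.filter fun χ : IrrCharacter G => K ≤ chKer χ), charDegree (χ : G → ℂ) ^ 2 +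
        ∑ χ ∈ (Finset.univ.filter fun χ : IrrCharacter G => M ≤ chKer χ), charDegree (χ : G → ℂ) ^ 2 := by
      rw [← Finset.sum_filter_add_sum_filter_not Finset.univ (fun χ : IrrCharacter G => K ≤ chKer χ)]
      apply Nat.add_le_add_left
      apply Finset.sum_le_sum_of_subset
      intro χ hχ
      rw [Finset.mem_filter] at hχ ⊢
      exact ⟨hχ.1, hcon χ hχ.2⟩
    rw [sum_sq_ker K, sum_sq_ker M, h1, hqM, h2, hcG, hcM] at h3
    nlinarith only [hA, h3]
  have hχ1 : (χ : G → ℂ) ≠ 1 := by
    intro h2
    apply hχM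
    intro g _
    rw [mem_chKer, h2]
    rfl
  by_cases hbot : chKer χ = ⊥
  · have := faithful_lt hL h M e hχ1 hbot
    omega
  · have hLM : chKer χ ⊓ M = ⊥ := by
      rcases hmin (chKer χ ⊓ M) inferInstance inf_le_right with h2 | h2
      · exact h2
      · exact absurd (inf_eq_right.1 h2) hχM
    obtain ⟨hLT, hcL⟩ := card_of_compl M e (chKer χ) hbot hLM
    have hLK : chKer χ ⊓ K = ⊥ := by
      by_contra h2
      have h3 : (chKer χ ⊓ K) ⊓ M = ⊥ := by
        rw [inf_assoc, hKM, inf_bot_eq]
      obtain ⟨-, h4⟩ := card_of_compl M e (chKer χ ⊓ K) h2 h3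
      have h5 : chKer χ ⊓ K = K := Subgroup.eq_of_le_of_card_ge inf_le_right (by rw [h4, hcK])
      exact hχK (inf_eq_right.1 h5)
    have hcom : ∀ (A B : Subgroup G), A.Normal → B.Normal → A ⊓ B = ⊥ → ∀ a ∈ A, ∀ b ∈ B, a * b = b * a := by
      intro A B hA hB hAB a ha b hb
      exact Subgroup.commute_of_normal_of_disjoint A B hA hB (disjoint_iff.2 hAB) a b ha hb
    have hcen : chKer χ ≤ center G := by
      intro x hx
      have h2 : (⊤ : Subgroup G) ≤ centralizer ({x} : Set G) := by
        rw [← hT]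
        apply sup_le
        · intro k hk
          rw [mem_centralizer_singleton_iff]
          exact (hcom _ _ inferInstance hK hLK x hx k hk).symm
        · intro k hk
          rw [mem_centralizer_singleton_iff]
          exact (hcom _ _ inferInstance hM hLM x hx k hk).symm
      rw [Subgroup.mem_center_iff]
      intro g
      exact mem_centralizer_singleton_iff.1 (h2 (mem_top g))
    have h2 := perfect_quot (K := M) hp
    have h3 : commutator (G ⧸ M) = ⊥ := by
      rw [commutator_eq_bot_iff_center_eq_top, eq_top_iff]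
      intro x _
      obtain ⟨g, rfl⟩ := QuotientGroup.mk_surjective x
      have h4 : g ∈ chKer χ ⊔ M := by rw [hLT]; exact mem_top g
      obtain ⟨a, ha, b, hb, rfl⟩ := Subgroup.mem_sup_of_normal_right.1 h4
      have h5 : ((a * b : G) : G ⧸ M) = (a : G ⧸ M) := by
        rw [QuotientGroup.mk_mul, (QuotientGroup.eq_one_iff b).2 hb, mul_one]
      rw [h5, Subgroup.mem_center_iff]
      intro y
      obtain ⟨c, rfl⟩ := QuotientGroup.mk_surjective y
      rw [← QuotientGroup.mk_mul, ← QuotientGroup.mk_mul, Subgroup.mem_center_iff.1 (hcen ha) c]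
    have hnt : Nontrivial (G ⧸ M) := e.toEquiv.nontrivial
    rw [h2] at h3
    exact top_ne_bot h3

/-- the characters over `M` -/
theorem above (h : CodOK L G)
    (M : Subgroup G) [hM : M.Normal] (e : G ⧸ M ≃* L)
    (hu : ∀ K : Subgroup G, K.Normal → K ≠ ⊥ → M ≤ K) (χ : IrrCharacter G) (hχ : ¬ M ≤ chKer χ) :
    ∃ d, NDeg L d ∧ charDegree (χ : G → ℂ) = Nat.card M * d := by
  apply faithful_deg h M e
  · intro h2
    apply hχ
    intro g _
    rw [mem_chKer, h2]
    rfl
  · by_contra h2
    exact hχ (hu _ inferInstance h2)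

/-- the sum of the squares over `M` -/
theorem sum_over (M : Subgroup G) [hM : M.Normal] (e : G ⧸ M ≃* L) [Fintype (IrrCharacter G)]
    [DecidablePred fun χ : IrrCharacter G => M ≤ chKer χ] :
    ∑ χ ∈ (Finset.univ.filter fun χ : IrrCharacter G => ¬ M ≤ chKer χ), charDegree (χ : G → ℂ) ^ 2 =
      Nat.card L * (Nat.card M - 1) := by
  classical
  have h2 := sum_deg_sq (G := G)
  rw [← Finset.sum_filter_add_sum_filter_not Finset.univ (fun χ : IrrCharacter G => M ≤ chKer χ), sum_sq_ker M] at h2
  have hqM : Nat.card (G ⧸ M) = Nat.card L := Nat.card_congr e.toEquiv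
  rw [hqM, card_eq M e] at h2
  have h3 : 0 < Nat.card M := Nat.card_pos
  obtain ⟨m, hm⟩ : ∃ m, Nat.card M = m + 1 := ⟨Nat.card M - 1, by omega⟩
  rw [hm, Nat.add_sub_cancel]
  rw [hm] at h2
  linarith only [h2]

/-- `|M|² ∣ |A_n|` -/
theorem sq_dvd (h : CodOK L G)
    (M : Subgroup G) [hM : M.Normal] (e : G ⧸ M ≃* L)
    (hu : ∀ K : Subgroup G, K.Normal → K ≠ ⊥ → M ≤ K) : Nat.card M ^ 2 ∣ Nat.card L := by
  classical
  have := finite_irr (G := G)
  have := Fintype.ofFinite (IrrCharacter G)
  have h1 : Nat.card M ^ 2 ∣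
      ∑ χ ∈ (Finset.univ.filter fun χ : IrrCharacter G => ¬ M ≤ chKer χ), charDegree (χ : G → ℂ) ^ 2 := by
    apply Finset.dvd_sum
    intro χ hχ
    obtain ⟨d, -, hd⟩ := above h M e hu χ (Finset.mem_filter.1 hχ).2
    rw [hd, mul_pow]
    exact Dvd.intro _ rfl
  rw [sum_over M e] at h1
  refine Nat.Coprime.dvd_of_dvd_mul_right ?_ h1
  apply Nat.Coprime.pow_left
  have h2 : 1 ≤ Nat.card M := Nat.card_pos
  rw [Nat.coprime_comm]
  exact (Nat.coprime_self_sub_left h2).2 (Nat.coprime_one_left _)

end Cfsg.Agent.H850.Cod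
end

-- part: H850/Cod/Nonab
section
/-!
# Codegrees inside the codegrees of a simple group (helper850, S3539): the minimal normal subgroup

`G` perfect with `CodOK L G`, `M` minimal normal, `G / M ≃* L` (after helper495's `H495.Cod.Nonab`).

* `nonab_false` : `M` is abelian
* `noncentral` : if `M` is abelian and not central, then `|M| = t ^ m`, `t ^ (2 m) ∣ |L|`, and `L` embeds into `GL_m(t)`
* `central` : if `M` is central, then `|M| = t` is a prime
* `ext_dvd` : if `M ≤ Y ≤ G` and `f : Y →* ℂˣ` is nontrivial on `M`, then `|M|` divides `|G : Y|`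
-/

set_option autoImplicit false
set_option linter.unusedSectionVars false

universe u v

namespace Cfsg.Agent.H850.Cod

open Cfsg Cfsg.Agent.Characters.Core Cfsg.Agent.H686.CharKit Subgroup

variable {L : Type v} [Group L] [Finite L] [IsSimpleGroup L] {G : Type u} [Group G] [Finite G]

theorem not_two_pow {n k : ℕ} (hn : n ≠ 0) (hk : n ≤ k) : ¬ 2 ^ k ∣ n.factorial := by
  intro h
  have h1 := Nat.emultiplicity_two_factorial_lt hn
  have h2 := le_emultiplicity_of_pow_dvd h
  have h3 := lt_of_le_of_lt h2 h1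
  have h4 : k < n := by exact_mod_cast h3
  omega

theorem nonab_false (hp : commutator G = ⊤)
    (hSch : ∀ (K : Type u) [Group K] [Finite K] [IsSimpleGroup K], ¬ IsMulCommutative K → Cfsg.Agent.Schreier.Basic.Sch K)
    (hev : ∀ (K : Type u) [Group K] [Finite K] [IsSimpleGroup K], ¬ IsMulCommutative K → 2 ∣ Nat.card K)
    (M : Subgroup G) [hM : M.Normal] (e : G ⧸ M ≃* L)
    (hmin : ∀ J : Subgroup G, J.Normal → J ≤ M → J = ⊥ ∨ J = M)
    (hu : ∀ K : Subgroup G, K.Normal → K ≠ ⊥ → M ≤ K) (hsq : Nat.card M ^ 2 ∣ Nat.card L)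
    (hna : ¬ ∀ x ∈ M, ∀ y ∈ M, Commute x y) : False := by
  classical
  obtain ⟨m, T, φ, hc⟩ := H794.SocleCount.exists_coord M hmin hna
  have hex := hc.exists_perm
  choose s hs using hex
  have hmul : ∀ a b, s (a * b) = s a * s b := by
    intro a b
    ext1 i
    apply hc.inj
    rw [Equiv.Perm.mul_apply, hs, hs, hs, Subgroup.map_map]
    congr 1
    ext x
    simp [mul_assoc]
  let f : G →* Equiv.Perm (Fin m) := MonoidHom.mk' s hmul
  have hfs : ∀ g, f g = s g := fun g => rfl
  have hMf : M ≤ f.ker := by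
    intro x hx
    rw [MonoidHom.mem_ker, hfs]
    ext1 i
    have := hc.simple i
    obtain ⟨t, ht⟩ := exists_ne (1 : T i)
    have h1 : x * (t : G) * x⁻¹ ∈ T (s x i) := by
      rw [hs]
      exact ⟨t, t.2, rfl⟩
    have h2 : x * (t : G) * x⁻¹ ∈ T i := by
      have h3 : φ.symm (Pi.mulSingle i ((φ ⟨x, hx⟩) i * t * ((φ ⟨x, hx⟩) i)⁻¹)) =
          ⟨x, hx⟩ * φ.symm (Pi.mulSingle i t) * ⟨x, hx⟩⁻¹ := by
        apply φ.injective
        rw [map_mul, map_mul, map_inv, MulEquiv.apply_symm_apply, MulEquiv.apply_symm_apply]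
        funext j
        by_cases hj : j = i
        · subst hj
          simp only [_root_.Pi.mulSingle_eq_same, _root_.Pi.mul_apply, _root_.Pi.inv_apply]
        · simp only [Pi.mulSingle_eq_of_ne hj, _root_.Pi.mul_apply, _root_.mul_one, _root_.Pi.inv_apply, _root_.mul_inv_cancel]
      have h4 := congrArg (Subtype.val) h3
      rw [hc.single] at h4
      have h5 : ((⟨x, hx⟩ * φ.symm (Pi.mulSingle i t) * ⟨x, hx⟩⁻¹ : M) : G) = x * (t : G) * x⁻¹ := by
        rw [Subgroup.coe_mul, Subgroup.coe_mul, hc.single]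
        rfl
      rw [h5] at h4
      rw [← h4]
      exact SetLike.coe_mem _
    refine (hc.disj h2 h1 ?_).symm
    intro h3
    apply ht
    apply Subtype.ext
    rw [mul_inv_eq_one] at h3
    exact mul_left_cancel (h3.trans (mul_one x).symm)
  have hMne : M ≠ ⊤ := by
    intro h
    have h1 : Subsingleton (G ⧸ M) := by rw [h]; exact QuotientGroup.subsingleton_quotient_top
    exact (not_subsingleton_iff_nontrivial.2 e.toEquiv.nontrivial) h1
  by_cases hk : f.ker ≤ M
  · -- `G / M` acts faithfully on the components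
    have hk' : f.ker = M := le_antisymm hk hMf
    have h1 : Nat.card L ∣ m.factorial := by
      have h2 : Nat.card f.range ∣ Nat.card (Equiv.Perm (Fin m)) := Subgroup.card_subgroup_dvd_card _
      rw [Nat.card_perm, Nat.card_fin, ← Nat.card_congr (QuotientGroup.quotientKerEquivRange f).toEquiv] at h2
      have h3 : Nat.card (G ⧸ f.ker) = Nat.card L := by
        rw [← Subgroup.index_eq_card, hk', Subgroup.index_eq_card, Nat.card_congr e.toEquiv]
      rwa [h3] at h2
    have h2 : 2 ^ m ∣ Nat.card M := by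
      rw [Nat.card_congr φ.toEquiv, Nat.card_pi]
      have h3 : ∏ _i : Fin m, 2 = 2 ^ m := by simp only [_root_.Finset.prod_const, _root_.Finset.card_univ, _root_.Fintype.card_fin]
      rw [← h3]
      apply Finset.prod_dvd_prod_of_dvd
      intro i _
      have := hc.simple i
      apply hev
      intro hcm
      obtain ⟨a, b, hab⟩ := hc.nc i
      exact hab (hcm.is_comm.comm a b)
    have h3 : 2 ^ (m * 2) ∣ m.factorial := by
      rw [pow_mul]
      exact ((pow_dvd_pow_of_dvd h2 2).trans hsq).trans h1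
    have hm0 := hc.pos
    exact not_two_pow (by omega) (by omega) h3
  · -- one component
    have hk' : f.ker = ⊤ := by
      have h1 := sup_eq_top M e f.ker hk
      rwa [sup_eq_left.2 hMf] at h1
    have hij : ∀ i j : Fin m, i = j := by
      intro i j
      obtain ⟨g, hg⟩ := hc.trans i j
      have h1 : g ∈ f.ker := by rw [hk']; exact mem_top g
      rw [MonoidHom.mem_ker, hfs] at h1
      have h2 := hs g i
      rw [h1, ← hg] at h2
      exact hc.inj h2
    have h0 : Fin m := ⟨0, hc.pos⟩
    have huq : Unique (Fin m) := ⟨⟨h0⟩, fun i => hij i _⟩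
    let i0 : Fin m := default
    have hsimT := hc.simple i0
    let E : M ≃* T i0 := φ.trans (MulEquiv.piUnique (fun i => T i))
    have hsM : IsSimpleGroup M := E.isSimpleGroup
    have hcM : ¬ IsMulCommutative M := by
      intro hcm
      apply hna
      intro x hx y hy
      exact congrArg Subtype.val (hcm.is_comm.comm (⟨x, hx⟩ : M) ⟨y, hy⟩)
    have hC : centralizer (M : Set G) = ⊥ := by
      by_contra hne
      have h1 := hu _ inferInstance hne
      apply hna
      intro x hx y hy
      exact (mem_centralizer_iff.1 (h1 hy) x hx)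
    exact hMne (H310.PerfTools.eq_top_of_schreier hp M hC (hSch M hcM))

/-- the action on an abelian normal subgroup -/
def act (M : Subgroup G) [M.Normal] (hab : ∀ x ∈ M, ∀ y ∈ M, Commute x y) :
    letI : CommGroup M := { (inferInstance : Group M) with mul_comm := fun a b => Subtype.ext (hab a a.2 b b.2) }
    G →* AddMonoid.End (Additive M) :=
  letI : CommGroup M := { (inferInstance : Group M) with mul_comm := fun a b => Subtype.ext (hab a a.2 b b.2) }
  { toFun := fun g => (MulAut.conjNormal g : MulAut M).toMonoidHom.toAdditive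
    map_one' := by
      ext x
      simp only [_root_.map_one, _root_.MulEquiv.toMonoidHom_eq_coe, _root_.AddMonoid.End.coe_one, _root_.id_eq, _root_.SetLike.coe_eq_coe, _root_.EmbeddingLike.apply_eq_iff_eq]
      rfl
    map_mul' := fun a b => by
      ext x
      simp only [_root_.map_mul, _root_.MulEquiv.toMonoidHom_eq_coe, _root_.SetLike.coe_eq_coe, _root_.EmbeddingLike.apply_eq_iff_eq]
      rfl }

theorem act_apply (M : Subgroup G) [M.Normal] (hab : ∀ x ∈ M, ∀ y ∈ M, Commute x y) (g : G) (x : M) :
    ((Additive.toMul (act M hab g (Additive.ofMul x)) : M) : G) = g * x * g⁻¹ := rfl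

/-- `M` abelian and not central is self-centralising -/
theorem centralizer_le (M : Subgroup G) [hM : M.Normal] (e : G ⧸ M ≃* L)
    (hab : ∀ x ∈ M, ∀ y ∈ M, Commute x y) (hnc : ¬ M ≤ center G) : centralizer (M : Set G) ≤ M := by
  by_contra hne
  have h1 := sup_eq_top M e _ hne
  have h2 : M ≤ centralizer (M : Set G) := by
    intro x hx
    rw [mem_centralizer_iff]
    intro y hy
    exact hab y hy x hx
  rw [sup_eq_left.2 h2] at h1
  apply hnc
  intro x hx
  rw [Subgroup.mem_center_iff]
  intro g
  have h3 : g ∈ centralizer (M : Set G) := by rw [h1]; exact mem_top g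
  exact (mem_centralizer_iff.1 h3 x hx).symm

/-- `M` abelian and not central -/
theorem noncentral (M : Subgroup G) [hM : M.Normal] (e : G ⧸ M ≃* L) (hM1 : M ≠ ⊥)
    (hmin : ∀ J : Subgroup G, J.Normal → J ≤ M → J = ⊥ ∨ J = M)
    (hab : ∀ x ∈ M, ∀ y ∈ M, Commute x y) (hnc : ¬ M ≤ center G) :
    ∃ (t : ℕ) (_ : t.Prime) (m : ℕ), Nat.card M = t ^ m ∧ (∀ x ∈ M, x ^ t = 1) ∧
      Nat.card L ∣ Nat.card (Matrix.GeneralLinearGroup (Fin m) (ZMod t)) := by
  classical
  have hC := centralizer_le M e hab hnc
  obtain ⟨q, hq, -, hqM⟩ := Lib.MinNormalNonabelian.abelian_structure M hM1 hmin hab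
  have := Fact.mk hq
  letI : CommGroup M := { (inferInstance : Group M) with mul_comm := fun a b => Subtype.ext (hab a a.2 b b.2) }
  obtain ⟨m, θ, hm, hθ⟩ := H189.FeitTits.exists_mod (E := Additive M) q (fun a => by
    have h1 := hqM (Additive.toMul a : M) (Additive.toMul a : M).2
    apply Additive.toMul.injective
    apply Subtype.ext
    simpa only [_root_.toMul_nsmul, _root_.SubmonoidClass.coe_pow, _root_.toMul_zero, _root_.OneMemClass.coe_one] using h1) (act M hab)
  have hmM : q ^ m = Nat.card M := hm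
  refine ⟨q, hq, m, hmM.symm, fun x hx => hqM x hx, ?_⟩
  have hker : ∀ g, θ g = 1 → g ∈ M := by
    intro g hg
    apply hC
    rw [mem_centralizer_iff]
    intro x hx
    have h1 := hθ g hg (Additive.ofMul ⟨x, hx⟩)
    have h2 : ((Additive.toMul (act M hab g (Additive.ofMul ⟨x, hx⟩)) : M) : G) = x := by rw [h1]; rfl
    rw [act_apply] at h2
    exact (mul_inv_eq_iff_eq_mul.1 h2).symm
  let Θ : G →* Matrix.GeneralLinearGroup (Fin m) (ZMod q) := θ.toHomUnits
  have hΘ : Θ.ker ≤ M := by
    intro g hg
    apply hker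
    rw [MonoidHom.mem_ker] at hg
    have h1 : ((Θ g : Matrix.GeneralLinearGroup (Fin m) (ZMod q)) : Matrix (Fin m) (Fin m) (ZMod q)) = θ g := rfl
    rw [← h1, hg]
    rfl
  have h1 : Nat.card L = M.index := by rw [Subgroup.index_eq_card, Nat.card_congr e.toEquiv]
  have h2 : M.index ∣ Θ.ker.index := Subgroup.index_dvd_of_le hΘ
  have h3 : Θ.ker.index = Nat.card Θ.range := Subgroup.index_ker Θ
  rw [h1]
  exact h2.trans (h3 ▸ Subgroup.card_subgroup_dvd_card Θ.range)

/-- `M` minimal normal and central -/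
theorem central (M : Subgroup G) [hM : M.Normal] (hM1 : M ≠ ⊥)
    (hmin : ∀ J : Subgroup G, J.Normal → J ≤ M → J = ⊥ ∨ J = M) (hMc : M ≤ center G) : (Nat.card M).Prime := by
  have hcen : ∀ J : Subgroup G, J ≤ M → J.Normal := by
    intro J hJ
    constructor
    intro x hx g
    have h1 := mem_center_iff.1 (hMc (hJ hx)) g
    rw [h1]
    simpa using hx
  have h1 : 1 < Nat.card M := by
    rw [Subgroup.one_lt_card_iff_ne_bot]
    exact hM1
  obtain ⟨q, hq, hqd⟩ := Nat.exists_prime_and_dvd h1.ne'
  have := Fact.mk hq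
  obtain ⟨x, hx⟩ := exists_prime_orderOf_dvd_card' (G := M) q hqd
  have h2 : zpowers (x : G) ≤ M := by
    rw [zpowers_le]
    exact x.2
  rcases hmin _ (hcen _ h2) h2 with h4 | h4
  · exfalso
    rw [zpowers_eq_bot] at h4
    have h5 : x = 1 := Subtype.ext h4
    rw [h5, orderOf_one] at hx
    exact hq.one_lt.ne hx
  · have h5 : Nat.card M = q := by
      rw [← h4, Nat.card_zpowers, ← hx]
      exact orderOf_coe x
    rw [h5]
    exact hq

end Cfsg.Agent.H850.Cod
end

-- part: H850/Cod/Reduce
section
/-!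
# Codegrees inside the codegrees of a simple group (helper850, S3539): reduction to simple groups

`L` a finite nonabelian simple group (after helper495's `H495.Cod.Reduce`).

* `CentralOK L` : no perfect `G` with a central subgroup `M` of prime order, `G / M ≃* L`, and all irreducible characters
  over `M` of degree `|M| d`, `d` a nontrivial degree of `L`
* `NoncentralOK L` : the same for a noncentral abelian minimal normal subgroup `M`
* `minimal_false` : `G` with minimal normal subgroup `M` and `G / M ≃* L` does not exist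
* `reduce` : if every simple group with the codegrees of `L` is `L`, then every nontrivial one is
-/

set_option autoImplicit false
set_option linter.unusedSectionVars false

universe u v

namespace Cfsg.Agent.H850.Cod

open Cfsg Cfsg.Agent.Characters.Core Cfsg.Agent.H686.CharKit Subgroup

/-- the central case -/
def CentralOK (L : Type v) [Group L] : Prop :=
  ∀ (G : Type u) [Group G] [Finite G] (M : Subgroup G) [M.Normal] (_ : G ⧸ M ≃* L), commutator G = ⊤ →
    M ≤ center G → (Nat.card M).Prime →
    (∀ χ : IrrCharacter G, ¬ M ≤ chKer χ → ∃ d : ℕ, NDeg L d ∧ charDegree (χ : G → ℂ) = Nat.card M * d) → False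

/-- the noncentral case -/
def NoncentralOK (L : Type v) [Group L] : Prop :=
  ∀ (G : Type u) [Group G] [Finite G] (M : Subgroup G) [M.Normal] (_ : G ⧸ M ≃* L), commutator G = ⊤ →
    M ≠ ⊥ → (∀ J : Subgroup G, J.Normal → J ≤ M → J = ⊥ ∨ J = M) → (∀ x ∈ M, ∀ y ∈ M, Commute x y) →
    ¬ M ≤ center G → Nat.card M ^ 2 ∣ Nat.card L →
    (∀ χ : IrrCharacter G, ¬ M ≤ chKer χ → ∃ d : ℕ, NDeg L d ∧ charDegree (χ : G → ℂ) = Nat.card M * d) → False

variable {L : Type v} [Group L] [Finite L] [IsSimpleGroup L] {G : Type u} [Group G] [Finite G]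

theorem minimal_false (hL : ¬ ∀ a b : L, a * b = b * a) (h : CodOK L G) (hp : commutator G = ⊤)
    (hS : ∀ (S : Type u) [Group S] [Finite S] [IsSimpleGroup S], ¬ (∀ a b : S, a * b = b * a) → CodOK L S →
      Nat.card S = Nat.card L)
    (hSch : ∀ (K : Type u) [Group K] [Finite K] [IsSimpleGroup K], ¬ IsMulCommutative K → Cfsg.Agent.Schreier.Basic.Sch K)
    (hev : ∀ (K : Type u) [Group K] [Finite K] [IsSimpleGroup K], ¬ IsMulCommutative K → 2 ∣ Nat.card K)
    (hC : CentralOK.{u} L) (hN : NoncentralOK.{u} L)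
    (M : Subgroup G) [hM : M.Normal] (e : G ⧸ M ≃* L) (hM1 : M ≠ ⊥)
    (hmin : ∀ J : Subgroup G, J.Normal → J ≤ M → J = ⊥ ∨ J = M) : False := by
  have hu : ∀ K : Subgroup G, K.Normal → K ≠ ⊥ → M ≤ K := fun K hK hK1 => uniq hL h hp hS M e hM1 hmin K hK hK1
  have hsq := sq_dvd h M e hu
  have hab := above h M e hu
  by_cases hcomm : ∀ x ∈ M, ∀ y ∈ M, Commute x y
  · by_cases hMc : M ≤ center G
    · exact hC G M e hp hMc (central M hM1 hmin hMc) hab
    · exact hN G M e hp hM1 hmin hcomm hMc hsq hab
  · exact nonab_false hp hSch hev M e hmin hu hsq hcomm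

theorem reduce (hL : ¬ ∀ a b : L, a * b = b * a) [Nontrivial G] (h : CodOK L G)
    (hS : ∀ (S : Type u) [Group S] [Finite S] [IsSimpleGroup S], ¬ (∀ a b : S, a * b = b * a) → CodOK L S →
      Nonempty (S ≃* L))
    (hSch : ∀ (K : Type u) [Group K] [Finite K] [IsSimpleGroup K], ¬ IsMulCommutative K → Cfsg.Agent.Schreier.Basic.Sch K)
    (hev : ∀ (K : Type u) [Group K] [Finite K] [IsSimpleGroup K], ¬ IsMulCommutative K → 2 ∣ Nat.card K)
    (hC : CentralOK.{u} L) (hN : NoncentralOK.{u} L) : Nonempty (G ≃* L) := by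
  classical
  have hp := h.perfect hL
  -- a maximal normal subgroup
  obtain ⟨M0, hM0, hmax⟩ : ∃ M0 : Subgroup G, (M0.Normal ∧ M0 ≠ ⊤) ∧ ∀ J : Subgroup G, J.Normal → M0 ≤ J → J ≠ ⊤ → J = M0 := by
    obtain ⟨M0, h1⟩ := (Set.toFinite {J : Subgroup G | J.Normal ∧ J ≠ ⊤}).exists_maximal
      ⟨⊥, inferInstance, fun h => by
        have := (Subgroup.subsingleton_iff (G := G)).1 (subsingleton_of_bot_eq_top h)
        exact not_subsingleton G this⟩
    exact ⟨M0, h1.1, fun J hJ hle hne => (h1.eq_of_le ⟨hJ, hne⟩ hle).symm⟩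
  obtain ⟨hM0n, hM0t⟩ := hM0
  have hQs : IsSimpleGroup (G ⧸ M0) := by
    have hnt : Nontrivial (G ⧸ M0) := by
      rw [← not_subsingleton_iff_nontrivial]
      intro hs
      exact hM0t (QuotientGroup.subgroup_eq_top_of_subsingleton M0 hs)
    constructor
    intro J hJ
    by_cases hc : J.comap (QuotientGroup.mk' M0) = ⊤
    · right
      rw [← Subgroup.map_comap_eq_self_of_surjective (QuotientGroup.mk'_surjective M0) J, hc, ← MonoidHom.range_eq_map,
        MonoidHom.range_eq_top.2 (QuotientGroup.mk'_surjective M0)]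
    · left
      have h1 := hmax _ (hJ.comap _) (by
        intro x hx
        rw [mem_comap, QuotientGroup.mk'_apply, (QuotientGroup.eq_one_iff x).2 hx]
        exact one_mem J) hc
      rw [← Subgroup.map_comap_eq_self_of_surjective (QuotientGroup.mk'_surjective M0) J, h1,
        QuotientGroup.map_mk'_self]
  have hQc : CodOK L (G ⧸ M0) := h.of_surj _ (QuotientGroup.mk'_surjective M0)
  have hQn : ¬ ∀ a b : G ⧸ M0, a * b = b * a := by
    intro hc
    have h1 := perfect_quot (K := M0) hp
    have h2 : commutator (G ⧸ M0) = ⊥ := by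
      rw [eq_bot_iff, commutator_def, commutator_le]
      intro a _ b _
      rw [mem_bot, commutatorElement_eq_one_iff_mul_comm]
      exact hc a b
    rw [h2] at h1
    exact bot_ne_top h1
  obtain ⟨e0⟩ := hS _ hQn hQc
  by_cases hbot : M0 = ⊥
  · subst hbot
    exact ⟨QuotientGroup.quotientBot.symm.trans e0⟩
  · exfalso
    -- a chief factor `M0 / N`
    obtain ⟨N, hN', hmaxN⟩ : ∃ N : Subgroup G, (N.Normal ∧ N < M0) ∧ ∀ J : Subgroup G, J.Normal → N ≤ J → J < M0 → J = N := by
      obtain ⟨N, h1⟩ := (Set.toFinite {J : Subgroup G | J.Normal ∧ J < M0}).exists_maximal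
        ⟨⊥, inferInstance, bot_lt_iff_ne_bot.2 hbot⟩
      exact ⟨N, h1.1, fun J hJ hle hne => (h1.eq_of_le ⟨hJ, hne⟩ hle).symm⟩
    obtain ⟨hNn, hNlt⟩ := hN'
    have hMn : (M0.map (QuotientGroup.mk' N)).Normal := hM0n.map _ (QuotientGroup.mk'_surjective N)
    let e1 : (G ⧸ N) ⧸ M0.map (QuotientGroup.mk' N) ≃* L :=
      (QuotientGroup.quotientQuotientEquivQuotient N M0 hNlt.le).trans e0
    refine minimal_false hL (h.of_surj _ (QuotientGroup.mk'_surjective N)) (perfect_quot (K := N) hp)
      (fun S _ _ _ hSa hSc => by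
        obtain ⟨f⟩ := hS S hSa hSc
        exact Nat.card_congr f.toEquiv) hSch hev hC hN
      (M0.map (QuotientGroup.mk' N)) e1 ?_ ?_
    · intro h1
      rw [Subgroup.map_eq_bot_iff, QuotientGroup.ker_mk'] at h1
      exact absurd h1 hNlt.not_ge
    · intro J hJ hJM
      have hJc : J = (J.comap (QuotientGroup.mk' N)).map (QuotientGroup.mk' N) :=
        (Subgroup.map_comap_eq_self_of_surjective (QuotientGroup.mk'_surjective N) J).symm
      have h1 : N ≤ J.comap (QuotientGroup.mk' N) := by
        intro x hx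
        rw [mem_comap, QuotientGroup.mk'_apply, (QuotientGroup.eq_one_iff x).2 hx]
        exact one_mem J
      have h2 : J.comap (QuotientGroup.mk' N) ≤ M0 := by
        intro x hx
        obtain ⟨y, hy, hyx⟩ := hJM hx
        have h4 : y⁻¹ * x ∈ N := QuotientGroup.eq.1 hyx
        have h5 : x = y * (y⁻¹ * x) := by group
        rw [h5]
        exact mul_mem hy (hNlt.le h4)
      rcases h2.lt_or_eq with h4 | h4
      · left
        rw [hJc, hmaxN _ (hJ.comap _) h1 h4, QuotientGroup.map_mk'_self]
      · right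
        rw [hJc, h4]

end Cfsg.Agent.H850.Cod
end
end
end
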