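import Cfsg.Agent.H850.Cod.Basic
import Mathlib
import Cfsg.Agent.KFacts.Mult.Calc
import Cfsg.Agent.H62.PPIdx
import Cfsg.Agent.H1.Over
import Cfsg.Agent.KFacts.RgdSyl
import Cfsg.Agent.H65.Laced
import Cfsg.Agent.KFacts.Mult.LacedRGD
import Cfsg.Agent.H65.ChevSys
import Cfsg.Agent.Nodes.LeviStd
import Cfsg.Agent.Nodes.CardSup_m3
import Cfsg.Agent.H62.PPChev
import Cfsg.Agent.H65.UnivE
import Cfsg.Agent.H850.Cod.Reduce
import Cfsg.Agent.ChevFast.E6
import Cfsg.Agent.ChevFast.E7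
import Cfsg.Agent.ChevFast.E8
import Cfsg.Agent.ChevFast.Lin
import Cfsg.Agent.FastGrp
import Cfsg.Agent.Prune
set_option linter.all false

section
prune_inst 0x7ffcfefbafa88ddfdfff7e3ffffddffdb0e8cfffe6dffffbffe8ebbf2bdfa3083fc5fb8f7de151ff1fd7e0b418b87b13fd7eceffe86bdc7ffffd5ff45ffbee1fa5e7bf8911d79c340f3f2fff63f1ff8a6f3fffffffffffffffffffffffffffbefffdfbfeffff

-- part: H850/Cod/Core
section
prune_inst 0x10100104040002000018000020002440720001920000000050400c4004863c0120010821e0a0080200300a5460080008110000490208000020000a00011c0481800004808008010800000900a007580000000000000000000000000000041000200000000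
set_option linter.all false
open scoped Cfsg.Agent.FastGrp

-- part: H850/Cod/Ext
section
/-!
# Degrees over a normal subgroup and linear characters of subgroups (helper850, S3539)

* `ext_dvd` : if the degree of every irreducible character of `G` over `M` is divisible by `m`, and the subgroup `Y`
  has a linear character which is not trivial on `M`, then `m` divides `|G : Y|`
-/

set_option autoImplicit false
set_option linter.unusedSectionVars false

universe u v

namespace Cfsg.Agent.H850.Cod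

open Cfsg Cfsg.Agent.Characters.Core Cfsg.Agent.H686.CharKit Subgroup
open scoped ComplexConjugate

variable {G : Type u} [Group G] [Finite G]

theorem ext_dvd (M : Subgroup G) {m : ℕ}
    (hab : ∀ χ : IrrCharacter G, ¬ M ≤ chKer χ → m ∣ charDegree (χ : G → ℂ))
    (Y : Subgroup G) (φ : Y →* ℂˣ) {x : Y} (hx : (x : G) ∈ M) (hφ : φ x ≠ 1) : m ∣ Y.index := by
  classical
  have := Fintype.ofFinite G
  have := Fintype.ofFinite Y
  have := finite_irr (G := G)
  have := Fintype.ofFinite (IrrCharacter G)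
  let f : Y → ℂ := fun y => (φ y : ℂ)
  have hf : IsCharacter Y f := Characters.Linear.isCharacter_hom φ
  have hnat : ∀ χ : IrrCharacter G, ∃ n : ℕ, classInner f ((χ : G → ℂ) ∘ Y.subtype) = n := fun χ =>
    classInner_isNat hf (isCharacter_comp Y.subtype (isIrr_isCharacter χ.2))
  choose n hn using hnat
  have hsum : ((∑ χ : IrrCharacter G, n χ * charDegree (χ : G → ℂ) : ℕ) : ℂ) = (Y.index : ℂ) := by
    push_cast
    have h1 : ∀ χ : IrrCharacter G, (n χ : ℂ) * (charDegree (χ : G → ℂ) : ℂ) =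
        (Nat.card Y : ℂ)⁻¹ * ∑ y : Y, f y * ((χ : G → ℂ) 1 * conj ((χ : G → ℂ) y)) := by
      intro χ
      rw [← hn χ, charDegree_irr, classInner_def, mul_assoc, Finset.sum_mul]
      congr 1
      refine Finset.sum_congr rfl fun y _ => ?_
      simp only [Function.comp_apply, Subgroup.coe_subtype]
      ring
    rw [Finset.sum_congr rfl fun χ _ => h1 χ, ← Finset.mul_sum, Finset.sum_comm]
    have h2 : ∀ y : Y, ∑ χ : IrrCharacter G, f y * ((χ : G → ℂ) 1 * conj ((χ : G → ℂ) y)) =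
        if y = 1 then (Nat.card G : ℂ) else 0 := by
      intro y
      rw [← Finset.mul_sum, col_orth]
      by_cases hy : y = 1
      · subst hy
        have h6 : IsConj (1 : G) ((1 : Y) : G) := IsConj.refl _
        rw [if_pos rfl, if_pos h6]
        have h3 : f 1 = 1 := by simp [f]
        have h4 : centralizer ({((1 : Y) : G)} : Set G) = ⊤ := by
          rw [eq_top_iff]
          intro g _
          rw [mem_centralizer_singleton_iff]
          simp
        rw [h3, h4, Subgroup.card_top, one_mul]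
      · rw [if_neg hy, if_neg, mul_zero]
        rw [isConj_one_right]
        exact fun h => hy (Subtype.ext h)
    rw [Finset.sum_congr rfl fun y _ => h2 y, Finset.sum_ite_eq' Finset.univ (1 : Y) fun _ => (Nat.card G : ℂ),
      if_pos (Finset.mem_univ _), ← Subgroup.card_mul_index Y]
    have h3 : (Nat.card Y : ℂ) ≠ 0 := card_ne_zero_complex
    push_cast
    rw [inv_mul_cancel_left₀ h3]
  have hsum' : ∑ χ : IrrCharacter G, n χ * charDegree (χ : G → ℂ) = Y.index := by exact_mod_cast hsum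
  rw [← hsum']
  refine Finset.dvd_sum fun χ _ => ?_
  by_cases hχ : M ≤ chKer χ
  · have h0 : n χ = 0 := by
      have h1 : (n χ : ℂ) = 0 := by
        rw [← hn χ, classInner_def]
        have h2 : (∑ y : Y, f y * conj (((χ : G → ℂ) ∘ Y.subtype) y)) = 0 := by
          have h3 : ∑ y : Y, f y * conj (((χ : G → ℂ) ∘ Y.subtype) y) =
              (φ x : ℂ) * ∑ y : Y, f y * conj (((χ : G → ℂ) ∘ Y.subtype) y) := by
            rw [Finset.mul_sum]
            rw [← Equiv.sum_comp (Equiv.mulLeft x)]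
            refine Finset.sum_congr rfl fun y _ => ?_
            simp only [Equiv.coe_mulLeft, Function.comp_apply, Subgroup.coe_subtype, Subgroup.coe_mul]
            rw [apply_mul_of_eq (isIrr_isCharacter χ.2) (hχ hx)]
            simp only [f, map_mul, Units.val_mul]
            ring
          have h4 : (1 - (φ x : ℂ)) * ∑ y : Y, f y * conj (((χ : G → ℂ) ∘ Y.subtype) y) = 0 := by
            rw [sub_mul, one_mul, ← h3, sub_self]
          rcases mul_eq_zero.1 h4 with h5 | h5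
          · exfalso
            apply hφ
            apply Units.ext
            rw [Units.val_one]
            exact (sub_eq_zero.1 h5).symm
          · exact h5
        rw [h2, mul_zero]
      exact_mod_cast h1
    rw [h0, zero_mul]
    exact dvd_zero _
  · exact Dvd.dvd.mul_left (hab χ hχ) _

end Cfsg.Agent.H850.Cod
end

-- part: H850/Cod/Dual
section
/-!
# Linear characters of an abelian normal `p`-subgroup (helper850, S3539)

* `stab M lam` : the stabiliser of the linear character `lam` of the normal subgroup `M`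
* `index_stab_lt` : the index of the stabiliser of a nontrivial linear character of an abelian `M` is smaller than `|M|`
* `exists_fixed` : a `p`-subgroup fixes a nontrivial linear character of an abelian `p`-group `M ≠ 1`
* `exists_ext` : extension of an invariant linear character
-/

set_option autoImplicit false
set_option linter.unusedSectionVars false

universe u v

namespace Cfsg.Agent.H850.Cod.Dual

open Subgroup

variable {G : Type u} [Group G] (M : Subgroup G) [hM : M.Normal]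

/-- the conjugate of a linear character -/
noncomputable def cjc (g : G) (lam : M →* ℂˣ) : M →* ℂˣ := lam.comp (MulAut.conjNormal g⁻¹ : MulAut M).toMonoidHom

theorem cjc_apply (g : G) (lam : M →* ℂˣ) (x : M) :
    cjc M g lam x = lam ⟨g⁻¹ * x * g, by simpa only [_root_.inv_inv] using hM.conj_mem x x.2 g⁻¹⟩ := by
  rw [cjc, MonoidHom.comp_apply]
  congr 1
  apply Subtype.ext
  simp only [_root_.map_inv, _root_.MulEquiv.toMonoidHom_eq_coe, _root_.MonoidHom.coe_coe, _root_.MulAut.inv_apply, _root_.MulAut.conjNormal_symm_apply]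

/-- the action on the linear characters -/
@[reducible] noncomputable def cAct : MulAction G (M →* ℂˣ) where
  smul g lam := cjc M g lam
  one_smul lam := by
    show cjc M 1 lam = lam
    ext x
    rw [cjc_apply]
    simp
  mul_smul a b lam := by
    show cjc M (a * b) lam = cjc M a (cjc M b lam)
    apply MonoidHom.ext
    intro x
    rw [cjc_apply, cjc_apply, cjc_apply]
    congr 1
    apply Subtype.ext
    simp only [mul_assoc, _root_.mul_inv_rev]

/-- the stabiliser -/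
noncomputable def stab (lam : M →* ℂˣ) : Subgroup G := letI := cAct M; MulAction.stabilizer G lam

theorem mem_stab {lam : M →* ℂˣ} {g : G} : g ∈ stab M lam ↔ cjc M g lam = lam := Iff.rfl

/-- elementwise form -/
theorem stab_inv {lam : M →* ℂˣ} {g : G} (hg : g ∈ stab M lam) {x : G} (hx : x ∈ M) (hx' : g⁻¹ * x * g ∈ M) :
    lam ⟨g⁻¹ * x * g, hx'⟩ = lam ⟨x, hx⟩ := by
  have h1 := DFunLike.congr_fun ((mem_stab M).1 hg) ⟨x, hx⟩
  rw [cjc_apply] at h1
  exact h1

theorem stab_inv' {lam : M →* ℂˣ} {g : G} (hg : g ∈ stab M lam) {x : G} (hx : x ∈ M) (hx' : g * x * g⁻¹ ∈ M) :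
    lam ⟨g * x * g⁻¹, hx'⟩ = lam ⟨x, hx⟩ := by
  have h1 := stab_inv M (inv_mem hg) hx (by rwa [inv_inv])
  have h2 : (⟨g * x * g⁻¹, hx'⟩ : M) = ⟨g⁻¹⁻¹ * x * g⁻¹, by rwa [inv_inv]⟩ := Subtype.ext (by simp)
  rw [h2, h1]

/-- the type of linear characters of a commutative group -/
theorem card_hom {A : Type u} [Group A] [Finite A] (hab : ∀ x y : A, x * y = y * x) :
    Nat.card (A →* ℂˣ) = Nat.card A ∧ Finite (A →* ℂˣ) := by
  let _ : CommGroup A := { (inferInstance : Group A) with mul_comm := hab }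
  have h0 : NeZero (Monoid.exponent A : ℂ) := ⟨by exact_mod_cast Monoid.exponent_ne_zero_of_finite⟩
  obtain ⟨e⟩ := CommGroup.monoidHom_mulEquiv_of_hasEnoughRootsOfUnity A ℂ
  exact ⟨Nat.card_congr e.toEquiv, Finite.of_equiv _ e.symm.toEquiv⟩

variable [Finite G]

theorem index_stab_lt (hab : ∀ x ∈ M, ∀ y ∈ M, Commute x y) {lam : M →* ℂˣ} (hlam : lam ≠ 1) :
    (stab M lam).index < Nat.card M := by
  let _ := cAct M
  obtain ⟨h1, h2⟩ := card_hom (A := M) fun x y => Subtype.ext (hab x x.2 y y.2)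
  rw [← h1]
  have h3 : (stab M lam).index = Nat.card (MulAction.orbit G lam) := by
    rw [Subgroup.index_eq_card]
    exact Nat.card_congr (MulAction.orbitEquivQuotientStabilizer G lam).symm
  rw [h3]
  have h4 : (1 : M →* ℂˣ) ∉ MulAction.orbit G lam := by
    rintro ⟨g, hg⟩
    apply hlam
    have hg' : g • lam = 1 := hg
    have e1 : lam = g⁻¹ • (1 : M →* ℂˣ) := by rw [← hg', inv_smul_smul]
    rw [e1]
    show cjc M g⁻¹ 1 = 1
    ext x
    rw [cjc_apply]
    rfl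
  have h5 : Nat.card (MulAction.orbit G lam) < Nat.card (Set.univ : Set (M →* ℂˣ)) := by
    rw [Nat.card_coe_set_eq, Nat.card_coe_set_eq]
    exact Set.ncard_lt_ncard ⟨Set.subset_univ _, fun h => h4 (h (Set.mem_univ _))⟩ (Set.toFinite _)
  rwa [Nat.card_univ] at h5

theorem exists_fixed {p : ℕ} [Fact p.Prime] (hab : ∀ x ∈ M, ∀ y ∈ M, Commute x y) (hp : IsPGroup p M) (h1 : M ≠ ⊥)
    {P : Subgroup G} (hP : IsPGroup p P) : ∃ lam : M →* ℂˣ, lam ≠ 1 ∧ P ≤ stab M lam := by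
  let _ := cAct M
  obtain ⟨h2, h3⟩ := card_hom (A := M) fun x y => Subtype.ext (hab x x.2 y y.2)
  have h4 : p ∣ Nat.card (M →* ℂˣ) := by
    rw [h2]
    obtain ⟨n, hn⟩ := IsPGroup.iff_card.1 hp
    rw [hn]
    have : n ≠ 0 := by
      rintro rfl
      rw [pow_zero] at hn
      exact h1 ((Subgroup.card_eq_one).1 hn)
    exact dvd_pow_self p this
  have h5 : (1 : M →* ℂˣ) ∈ MulAction.fixedPoints P (M →* ℂˣ) := by
    intro g
    show cjc M g 1 = 1
    ext x
    rw [cjc_apply]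
    rfl
  obtain ⟨lam, h6, h7⟩ := hP.exists_fixed_point_of_prime_dvd_card_of_fixed_point (M →* ℂˣ) h4 h5
  exact ⟨lam, h7.symm, fun g hg => h6 ⟨g, hg⟩⟩

/-- **extension of an invariant linear character** -/
theorem exists_ext {lam : M →* ℂˣ} {P V : Subgroup G} (hV : V ≤ stab M lam)
    (h1 : ∀ (x : G) (hx : x ∈ M), x ∈ V → lam ⟨x, hx⟩ = 1) (hdec : ∀ g ∈ P, ∃ v ∈ V, ∃ m ∈ M, g = v * m) :
    ∃ φ : P →* ℂˣ, ∀ (x : G) (hx : x ∈ M) (hx' : x ∈ P), φ ⟨x, hx'⟩ = lam ⟨x, hx⟩ := by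
  classical
  have hdec' : ∀ g : P, ∃ (v m : G), v ∈ V ∧ m ∈ M ∧ (g : G) = v * m := by
    intro g
    obtain ⟨v, hv, m, hm, e⟩ := hdec g g.2
    exact ⟨v, m, hv, hm, e⟩
  choose v m hv hm he using hdec'
  have huniq : ∀ (g : P) (a b : G) (_ : a ∈ V) (hb : b ∈ M), (g : G) = a * b → lam ⟨m g, hm g⟩ = lam ⟨b, hb⟩ := by
    intro g a b ha hb e
    have e1 : a⁻¹ * v g = b * (m g)⁻¹ := by
      have e2 : v g * m g = a * b := by rw [← he, e]
      calc a⁻¹ * v g = a⁻¹ * (v g * m g) * (m g)⁻¹ := by group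
        _ = b * (m g)⁻¹ := by rw [e2]; group
    have h2 : b * (m g)⁻¹ ∈ V := by rw [← e1]; exact mul_mem (inv_mem ha) (hv g)
    have h3 := h1 (b * (m g)⁻¹) (mul_mem hb (inv_mem (hm g))) h2
    have h4 : (⟨b * (m g)⁻¹, mul_mem hb (inv_mem (hm g))⟩ : M) = ⟨b, hb⟩ * ⟨m g, hm g⟩⁻¹ := rfl
    rw [h4, map_mul, map_inv, mul_inv_eq_one] at h3
    exact h3.symm
  refine ⟨⟨⟨fun g => lam ⟨m g, hm g⟩, ?_⟩, ?_⟩, ?_⟩
  · rw [huniq 1 1 1 (one_mem V) (one_mem M) (by simp)]
    exact map_one lam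
  · intro g g'
    have e1 : ((g * g' : P) : G) = (v g * v g') * (((v g')⁻¹ * m g * v g') * m g') := by
      rw [Subgroup.coe_mul, he g, he g']
      group
    have h2 : (v g')⁻¹ * m g * v g' ∈ M := by simpa using hM.conj_mem _ (hm g) (v g')⁻¹
    show lam ⟨m (g * g'), hm (g * g')⟩ = lam ⟨m g, hm g⟩ * lam ⟨m g', hm g'⟩
    rw [huniq (g * g') _ _ (mul_mem (hv g) (hv g')) (mul_mem h2 (hm g')) e1]
    have h3 : (⟨(v g')⁻¹ * m g * v g' * m g', mul_mem h2 (hm g')⟩ : M) = ⟨(v g')⁻¹ * m g * v g', h2⟩ * ⟨m g', hm g'⟩ := rfl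
    rw [h3, map_mul, stab_inv M (hV (hv g')) (hm g) h2]
  · intro x hx hx'
    exact huniq ⟨x, hx'⟩ 1 x (one_mem V) hx (by simp)

end Cfsg.Agent.H850.Cod.Dual
end

-- part: H850/Cod/Core
section
/-!
# Noncentral minimal normal `p`-subgroups (helper850, S3539)

`Split YJ UJ` : every central extension of `YJ` splits over `UJ`.

`core` : `M` a noncentral abelian minimal normal `p`-subgroup of `G` such that `|M|` divides the degrees of the irreducible
characters over `M`; `f : G → Y` surjective with kernel `M`, `U` a `p`-subgroup of `Y`. Then there is a subgroup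
`S ≠ Y` of `Y` with `U ≤ S`, `|Y : S| < |M|` and such that `|M|` divides `|Y : UJ|` for all `UJ ≤ YJ ≤ S` with
`Split YJ UJ`.
-/

set_option autoImplicit false
set_option linter.unusedSectionVars false

universe u v

namespace Cfsg.Agent.H850.Cod

open Cfsg Cfsg.Agent.Characters.Core Cfsg.Agent.H686.CharKit Subgroup
open Cfsg.Agent.KFacts.Mult.Calc Cfsg.Agent.H850.Cod.Dual

/-- every central extension of `YJ` splits over `UJ` -/
def Split {Y : Type v} [Group Y] (YJ UJ : Subgroup Y) : Prop :=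
  ∀ (E : Type u) [Group E] [Finite E] (π : E →* YJ), CE π →
    ∃ V : Subgroup E, (∀ x ∈ V, π x = 1 → x = 1) ∧ V.map (YJ.subtype.comp π) = UJ

variable {G : Type u} [Group G] [Finite G] {Y : Type v} [Group Y] [Finite Y]

/-- extension to the preimage of `UJ` -/
theorem exists_ext_of_split (M : Subgroup G) [hM : M.Normal] {f : G →* Y} (hf : Function.Surjective f)
    (hk : ∀ g, f g = 1 ↔ g ∈ M) {lam : M →* ℂˣ} {YJ UJ : Subgroup Y} (hY : YJ.comap f ≤ stab M lam)
    (hS : Split.{u} YJ UJ) :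
    ∃ φ : UJ.comap f →* ℂˣ, ∀ (x : G) (hx : x ∈ M) (hx' : x ∈ UJ.comap f), φ ⟨x, hx'⟩ = lam ⟨x, hx⟩ := by
  classical
  set H : Subgroup G := YJ.comap f with hH
  let K0 : Subgroup H :=
    { carrier := {h | ∃ hx : (h : G) ∈ M, lam ⟨h, hx⟩ = 1}
      one_mem' := ⟨one_mem M, map_one lam⟩
      mul_mem' := by
        rintro a b ⟨ha, ha'⟩ ⟨hb, hb'⟩
        refine ⟨mul_mem ha hb, ?_⟩
        have h1 : (⟨((a * b : H) : G), mul_mem ha hb⟩ : M) = ⟨a, ha⟩ * ⟨b, hb⟩ := rfl
        rw [h1, map_mul, ha', hb', one_mul]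
      inv_mem' := by
        rintro a ⟨ha, ha'⟩
        refine ⟨inv_mem ha, ?_⟩
        have h1 : (⟨((a⁻¹ : H) : G), inv_mem ha⟩ : M) = (⟨a, ha⟩ : M)⁻¹ := rfl
        rw [h1, map_inv, ha', inv_one] }
  have hK0 : K0.Normal := by
    constructor
    rintro a ⟨ha, ha'⟩ g
    have h1 : ((g * a * g⁻¹ : H) : G) ∈ M := hM.conj_mem _ ha g
    refine ⟨h1, ?_⟩
    rw [← ha']
    exact stab_inv' M (hY g.2) ha h1
  let f0 : H →* YJ := f.subgroupComap YJ
  have hf0 : ∀ h : H, (f0 h : Y) = f h := fun _ => rfl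
  have hf0s : Function.Surjective f0 := f.subgroupComap_surjective_of_surjective YJ hf
  let π : (H ⧸ K0) →* YJ := QuotientGroup.lift K0 f0 (by
    rintro a ⟨ha, -⟩
    apply Subtype.ext
    rw [hf0]
    exact (hk a).2 ha)
  have hπ : ∀ h : H, π (QuotientGroup.mk h) = f0 h := fun h => rfl
  have hce : CE π := by
    refine ⟨fun y => ?_, fun x hx => ?_⟩
    · obtain ⟨h, rfl⟩ := hf0s y
      exact ⟨QuotientGroup.mk h, hπ h⟩
    · obtain ⟨a, rfl⟩ := QuotientGroup.mk_surjective x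
      rw [MonoidHom.mem_ker, hπ] at hx
      have ha : (a : G) ∈ M := by
        rw [← hk, ← hf0, hx]
        rfl
      rw [Subgroup.mem_center_iff]
      intro y
      obtain ⟨b, rfl⟩ := QuotientGroup.mk_surjective y
      rw [← QuotientGroup.mk_mul, ← QuotientGroup.mk_mul]
      symm
      rw [QuotientGroup.eq]
      have h1 : (b : G)⁻¹ * (a : G)⁻¹ * b ∈ M := by simpa only [_root_.inv_inv] using hM.conj_mem _ (inv_mem ha) (b : G)⁻¹
      have e1 : (((a * b)⁻¹ * (b * a) : H) : G) = ((b : G)⁻¹ * (a : G)⁻¹ * b) * a := by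
        simp only [mul_assoc, _root_.mul_inv_rev, _root_.Subgroup.coe_mul, _root_.InvMemClass.coe_inv]
      have h2 : (((a * b)⁻¹ * (b * a) : H) : G) ∈ M := by
        rw [e1]
        exact mul_mem h1 ha
      refine ⟨h2, ?_⟩
      have e2 : (⟨(((a * b)⁻¹ * (b * a) : H) : G), h2⟩ : M) = ⟨(b : G)⁻¹ * (a : G)⁻¹ * b, h1⟩ * ⟨a, ha⟩ := Subtype.ext e1
      rw [e2, map_mul, stab_inv M (hY b.2) (inv_mem ha) h1]
      have e3 : (⟨(a : G)⁻¹, inv_mem ha⟩ : M) = (⟨a, ha⟩ : M)⁻¹ := rfl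
      rw [e3, map_inv, inv_mul_cancel]
  obtain ⟨V, hV1, hV2⟩ := hS (H ⧸ K0) π hce
  let VG : Subgroup G := (V.comap (QuotientGroup.mk' K0)).map H.subtype
  have hVG : ∀ x, x ∈ VG ↔ ∃ h : H, (QuotientGroup.mk h : H ⧸ K0) ∈ V ∧ (h : G) = x := by
    intro x
    constructor
    · rintro ⟨h, hh, rfl⟩
      exact ⟨h, hh, rfl⟩
    · rintro ⟨h, hh, rfl⟩
      exact ⟨h, hh, rfl⟩
  refine exists_ext M (V := VG) ?_ ?_ ?_
  · intro x hx
    obtain ⟨h, -, rfl⟩ := (hVG x).1 hx
    exact hY h.2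
  · intro x hx hxV
    obtain ⟨h, hh, rfl⟩ := (hVG x).1 hxV
    have h1 : π (QuotientGroup.mk h) = 1 := by
      apply Subtype.ext
      rw [hπ, hf0]
      exact (hk _).2 hx
    have h2 := hV1 _ hh h1
    obtain ⟨hx', h3⟩ := (QuotientGroup.eq_one_iff h).1 h2
    exact h3
  · intro g hg
    have h1 : f g ∈ UJ := hg
    rw [← hV2] at h1
    obtain ⟨v, hv, e⟩ := h1
    obtain ⟨h, rfl⟩ := QuotientGroup.mk_surjective v
    have e1 : f h = f g := e
    refine ⟨h, (hVG _).2 ⟨h, hv, rfl⟩, (h : G)⁻¹ * g, ?_, by group⟩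
    rw [← hk, map_mul, map_inv, e1, inv_mul_cancel]

/-- **noncentral minimal normal subgroups** -/
theorem core {p : ℕ} [Fact p.Prime] (M : Subgroup G) [hM : M.Normal] {f : G →* Y} (hf : Function.Surjective f)
    (hk : ∀ g, f g = 1 ↔ g ∈ M) (hM1 : M ≠ ⊥) (hmin : ∀ J : Subgroup G, J.Normal → J ≤ M → J = ⊥ ∨ J = M)
    (hab : ∀ x ∈ M, ∀ y ∈ M, Commute x y) (hnc : ¬ M ≤ center G) (hp : IsPGroup p M)
    (hdeg : ∀ χ : IrrCharacter G, ¬ M ≤ chKer χ → Nat.card M ∣ charDegree (χ : G → ℂ))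
    {U : Subgroup Y} (hU : IsPGroup p U) :
    ∃ S : Subgroup Y, U ≤ S ∧ S ≠ ⊤ ∧ S.index < Nat.card M ∧
      ∀ YJ UJ : Subgroup Y, YJ ≤ S → Split.{u} YJ UJ → Nat.card M ∣ UJ.index := by
  classical
  have hker : f.ker = M := by
    ext g
    rw [MonoidHom.mem_ker, hk]
  have hUp : IsPGroup p (U.comap f) := hU.comap_of_ker_isPGroup f (by rw [hker]; exact hp)
  obtain ⟨lam, hlam, hfix⟩ := exists_fixed M hab hp hM1 hUp
  have hMs : M ≤ stab M lam := by
    intro g hg
    rw [mem_stab]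
    ext x
    rw [cjc_apply]
    congr 2
    apply Subtype.ext
    have h1 := hab g hg x x.2
    show g⁻¹ * x * g = x
    rw [mul_assoc, ← h1.eq, inv_mul_cancel_left]
  have hcm : ((stab M lam).map f).comap f = stab M lam := by
    rw [Subgroup.comap_map_eq, hker, sup_eq_left.2 hMs]
  refine ⟨(stab M lam).map f, ?_, ?_, ?_, ?_⟩
  · intro y hy
    obtain ⟨g, rfl⟩ := hf y
    exact ⟨g, hfix hy, rfl⟩
  · intro htop
    rw [htop, Subgroup.comap_top] at hcm
    have hinv : ∀ g x : G, ∀ (hx : x ∈ M) (hx' : g * x * g⁻¹ ∈ M), lam ⟨g * x * g⁻¹, hx'⟩ = lam ⟨x, hx⟩ :=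
      fun g x hx hx' => stab_inv' M (by rw [← hcm]; exact mem_top g) hx hx'
    let K1 : Subgroup G := lam.ker.map M.subtype
    have hK1 : ∀ x, x ∈ K1 ↔ ∃ hx : x ∈ M, lam ⟨x, hx⟩ = 1 := by
      intro x
      constructor
      · rintro ⟨y, hy, rfl⟩
        exact ⟨y.2, hy⟩
      · rintro ⟨hx, h1⟩
        exact ⟨⟨x, hx⟩, h1, rfl⟩
    have hK1n : K1.Normal := by
      constructor
      intro x hx g
      obtain ⟨hx, h1⟩ := (hK1 x).1 hx
      refine (hK1 _).2 ⟨hM.conj_mem x hx g, ?_⟩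
      rw [hinv g x hx, h1]
    have hK1M : K1 ≤ M := fun x hx => ((hK1 x).1 hx).1
    rcases hmin K1 hK1n hK1M with h1 | h1
    · apply hnc
      intro x hx
      rw [Subgroup.mem_center_iff]
      intro g
      have hx' := hM.conj_mem x hx g
      have h2 := hinv g x hx hx'
      have h3 : g * x * g⁻¹ * x⁻¹ ∈ K1 := by
        refine (hK1 _).2 ⟨mul_mem hx' (inv_mem hx), ?_⟩
        have e1 : (⟨g * x * g⁻¹ * x⁻¹, mul_mem hx' (inv_mem hx)⟩ : M) = ⟨g * x * g⁻¹, hx'⟩ * ⟨x, hx⟩⁻¹ := rfl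
        rw [e1, map_mul, map_inv, h2, mul_inv_cancel]
      rw [h1, mem_bot, mul_inv_eq_one, mul_inv_eq_iff_eq_mul] at h3
      exact h3
    · apply hlam
      ext x
      have h2 : (x : G) ∈ K1 := by rw [h1]; exact x.2
      obtain ⟨h3, h4⟩ := (hK1 _).1 h2
      have h5 : lam x = 1 := h4
      rw [h5]
      rfl
  · have h1 : ((stab M lam).map f).index = (stab M lam).index := by
      rw [← Subgroup.index_comap_of_surjective ((stab M lam).map f) hf, hcm]
    rw [h1]
    exact index_stab_lt M hab hlam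
  · intro YJ UJ hYJ hS
    have hYs : YJ.comap f ≤ stab M lam := by
      rw [← hcm]
      exact Subgroup.comap_mono hYJ
    obtain ⟨φ, hφ⟩ := exists_ext_of_split M hf hk hYs hS
    obtain ⟨x, hx⟩ : ∃ x : M, lam x ≠ 1 := by
      by_contra hne
      push Not at hne
      exact hlam (MonoidHom.ext fun x => hne x)
    have hMU : (x : G) ∈ UJ.comap f := by
      rw [Subgroup.mem_comap, (hk _).2 x.2]
      exact one_mem _
    have h2 := ext_dvd M hdeg (UJ.comap f) φ (x := ⟨x, hMU⟩) x.2 (by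
      rw [hφ x x.2 hMU]
      exact hx)
    rwa [Subgroup.index_comap_of_surjective UJ hf] at h2

end Cfsg.Agent.H850.Cod
end

private theorem dce_5346c25c18a9 : _root_.True := by
  try have : _root_.True := by simp only [_root_.Cfsg.Agent.H850.Cod.Dual.cjc.eq_1]
  exact _root_.True.intro
end

-- part: H850/Cod/CharOK
section
prune_inst 0x401130000000004000000000491010000000000000001040102000040020002000008000000000000000004002002000030000000000000000000000100000102020010ac00000000000000010000000000000000000000000000000000004010000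
set_option linter.all false
open scoped Cfsg.Agent.FastGrp

-- part: H850/Cod/Par
section
/-!
# Overgroups of a Sylow `p`-subgroup of small index in a group of Lie type of characteristic `p` (helper850, S3539)

* `card_U` : `|U| = |U_J| |V_J|`
* `final` : no overgroup `S ≠ Y` of `U` of index less than `m` such that `m` divides `|Y : UJ|` for all `UJ ≤ YJ ≤ S` with
  `Split YJ UJ`, if `m² ≤ Q` is a power of `p` and `Q ≤ |V_J|²` for most maximal `J`
-/

set_option autoImplicit false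
set_option linter.unusedSectionVars false

universe u

namespace Cfsg.Agent.H850.Cod.Par

open CoxeterSystem Cfsg.Agent.ChevalleyStructure.CoxeterGeom Cfsg.Agent.Tits.Roots Cfsg.Agent.Tits.Core
  Cfsg.Agent.Nodes.Reps Cfsg.Agent.Nodes.BNOf Cfsg.Agent.Nodes.Bruhat Cfsg.Agent.Nodes.LeviDec
  Cfsg.Agent.Nodes.StabComb Cfsg.Agent.Nodes.Unique Cfsg.Agent.Nodes.CardSup Cfsg.Agent.H62.PPIdx
  Cfsg.Agent.H1.Over

variable {I W Y : Type*} [Fintype I] [DecidableEq I] [Group W] [Group Y] {M : CoxeterMatrix I}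
  {cs : CoxeterSystem M W} {A : I → I → ℤ} {h : IsCartan M A} {p : ℕ} {T : Subgroup Y} {n : I → Y}
  {X : (I → ℤ) → Subgroup Y}

theorem closed_PosJ (J : Set I) : Closed cs h (PosJ cs h J) := by
  intro a ha b hb z hz
  have h1 : 0 ≤ z := RGD.nonneg_of_btwn ha.2.1 hb.2.1 hz
  refine ⟨hz.1, h1, fun k hk => ?_⟩
  obtain ⟨-, m, a', b', hm, -, -, e⟩ := hz
  have e1 := congrFun e k
  simp only [Pi.smul_apply, Pi.add_apply, smul_eq_mul, ha.2.2 k hk, hb.2.2 k hk, mul_zero, add_zero] at e1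
  rcases mul_eq_zero.1 e1 with h2 | h2
  · omega
  · exact h2

variable (R : RGD cs h p T n X)

include R

theorem card_Sup [Finite W] {s : Finset (I → ℤ)} {S : Set (I → ℤ)} (hs : (s : Set (I → ℤ)) = S)
    (hS : S ⊆ RGD.Pos cs h) (hc : Closed cs h S) : Nat.card (RGD.Sup X S) = ∏ x ∈ s, Nat.card (X x) := by
  subst hs
  exact card_sup R hS hc

theorem card_U [Finite W] (J : Set I) : Nat.card (RGD.Sup X (RGD.Pos cs h)) =
    Nat.card (RGD.Sup X (PosJ cs h J)) * Nat.card (VJ cs h X J) := by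
  classical
  have hf0 : {x | IsRoot cs h x}.Finite := RGD.finite_roots (cs := cs) (h := h)
  have hfP : (RGD.Pos cs h).Finite := hf0.subset fun _ hx => hx.1
  have hfJ : (PosJ cs h J).Finite := hf0.subset fun _ hx => hx.1
  have hfN : (NotJ cs h J).Finite := hf0.subset fun _ hx => hx.1
  have e0 := card_Sup R hfP.coe_toFinset subset_rfl (by
    intro a ha b hb z hz
    exact ⟨hz.1, RGD.nonneg_of_btwn ha.2 hb.2 hz⟩)
  have e1 := card_Sup R hfJ.coe_toFinset (fun x hx => ⟨hx.1, hx.2.1⟩) (closed_PosJ J)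
  have e2 := card_Sup R hfN.coe_toFinset (fun x hx => ⟨hx.1, hx.2.1⟩) (closed_NotJ J)
  have hd : Disjoint hfJ.toFinset hfN.toFinset := by
    rw [Finset.disjoint_left]
    intro x hx hx'
    rw [Set.Finite.mem_toFinset] at hx hx'
    obtain ⟨-, -, k, hk, hk0⟩ := hx'
    have := hx.2.2 k hk
    omega
  have hu : hfP.toFinset = hfJ.toFinset ∪ hfN.toFinset := by
    ext x
    rw [Finset.mem_union, Set.Finite.mem_toFinset, Set.Finite.mem_toFinset, Set.Finite.mem_toFinset]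
    constructor
    · rintro ⟨h1, h2⟩
      by_cases h3 : ∀ k, k ∉ J → x k = 0
      · exact Or.inl ⟨h1, h2, h3⟩
      · push Not at h3
        obtain ⟨k, hk, hk0⟩ := h3
        exact Or.inr ⟨h1, h2, k, hk, lt_of_le_of_ne (h2 k) (Ne.symm hk0)⟩
    · rintro (h1 | h1)
      · exact ⟨h1.1, h1.2.1⟩
      · exact ⟨h1.1, h1.2.1⟩
  rw [e0, e1, hu, Finset.prod_union hd, ← e2]
  rfl

/-- **the parabolic argument** -/
theorem final [Finite W] [Finite Y] [hpp : Fact p.Prime] (hG : Nodes.RGDLib.G1 cs h X = ⊤) {S : Subgroup Y}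
    (hU : RGD.Sup X (RGD.Pos cs h) ≤ S) (hS : S ≠ ⊤) {m k Q : ℕ} (hm : m = p ^ k) (hQ : m ^ 2 ≤ Q) (hidx : S.index < m)
    (hsp : ∀ YJ UJ : Subgroup Y, YJ ≤ S → Split.{u} YJ UJ → m ∣ UJ.index)
    (hnode : ∀ i, Q ≤ Nat.card (VJ cs h X {i}ᶜ) ^ 2 ∨
      ((∀ j, j ≠ i → Q ≤ Nat.card (VJ cs h X {i, j}ᶜ) ^ 2) ∧ ∃ UJ : Subgroup Y, UJ ≤ RGD.Sup X (RGD.Pos cs h) ∧
        Nat.card (RGD.Sup X (PosJ cs h {i}ᶜ)) ≤ Nat.card UJ ∧ Split.{u} (RGD.Sup X (RootsJ cs h {i}ᶜ)) UJ)) :
    False := by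
  have hGG : GG cs h T X = ⊤ := by
    rw [eq_top_iff, ← hG]
    exact le_sup_right
  set J := JH X S with hJdef
  have hPJ := le_PJ R hU (by rw [hGG]; exact le_top)
  have hV : Nat.card (VJ cs h X J) < m := (card_VJ_le_index R hPJ).trans_lt hidx
  have key : ∀ J' : Set I, J ⊆ J' → ¬ Q ≤ Nat.card (VJ cs h X J') ^ 2 := by
    intro J' hJ' h1
    have h2 : Nat.card (VJ cs h X J') ≤ Nat.card (VJ cs h X J) := Subgroup.card_le_of_le (VJ_anti R hJ')
    have h3 : Nat.card (VJ cs h X J') ^ 2 < m ^ 2 := Nat.pow_lt_pow_left (h2.trans_lt hV) two_ne_zero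
    omega
  have hJu : J ≠ Set.univ := by
    intro h1
    apply hS
    rw [eq_top_iff, ← hG]
    refine le_trans ?_ (rootsJ_le R hU)
    rw [← hJdef, h1]
    exact RGD.Sup_mono fun x hx => ⟨hx, fun k hk => absurd (Set.mem_univ k) hk⟩
  obtain ⟨i, hi⟩ := (Set.ne_univ_iff_exists_notMem _).1 hJu
  have hi1 : J ⊆ {i}ᶜ := by
    intro j hj
    rw [Set.mem_compl_iff, Set.mem_singleton_iff]
    rintro rfl
    exact hi hj
  rcases hnode i with h1 | ⟨h1, UJ, h2, h3, h4⟩
  · exact key _ hi1 h1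
  have hJi : J = {i}ᶜ := by
    refine Set.Subset.antisymm hi1 fun j hj => ?_
    by_contra hj'
    refine key {i, j}ᶜ (fun a ha => ?_) (h1 j hj)
    rw [Set.mem_compl_iff, Set.mem_insert_iff, Set.mem_singleton_iff]
    rintro (rfl | rfl)
    · exact hi ha
    · exact hj' ha
  have h5 : m ∣ UJ.index := hsp _ UJ (by rw [← hJi]; exact rootsJ_le R hU) h4
  have h6 := KFacts.RgdSyl.not_dvd_relIndex R
  rw [hGG, Subgroup.relIndex_top_right] at h6
  have h7 : m ∣ UJ.relIndex (RGD.Sup X (RGD.Pos cs h)) := by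
    rw [← Subgroup.relIndex_mul_index h2] at h5
    refine Nat.Coprime.dvd_of_dvd_mul_right ?_ h5
    rw [hm]
    exact Nat.Coprime.pow_left _ ((Nat.Prime.coprime_iff_not_dvd hpp.out).2 h6)
  have h8 : UJ.relIndex (RGD.Sup X (RGD.Pos cs h)) * Nat.card UJ = Nat.card (RGD.Sup X (RGD.Pos cs h)) := by
    rw [mul_comm, ← Subgroup.card_mul_index (UJ.subgroupOf (RGD.Sup X (RGD.Pos cs h)))]
    rw [Nat.card_congr (Subgroup.subgroupOfEquivOfLe h2).toEquiv]
    rfl
  have h9 : 0 < UJ.relIndex (RGD.Sup X (RGD.Pos cs h)) := by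
    refine Nat.pos_of_ne_zero fun h0 => ?_
    rw [h0, zero_mul] at h8
    exact Nat.card_pos.ne h8
  have h10 : m ≤ UJ.relIndex (RGD.Sup X (RGD.Pos cs h)) := Nat.le_of_dvd h9 h7
  have h11 := card_U R {i}ᶜ
  rw [← h8, ← hJi] at h11
  rw [← hJi] at h3
  have h12 : 0 < Nat.card (RGD.Sup X (PosJ cs h J)) := Nat.card_pos
  have h13 : Nat.card (RGD.Sup X (PosJ cs h J)) * m ≤ Nat.card (RGD.Sup X (PosJ cs h J)) * Nat.card (VJ cs h X J) := by
    rw [← h11, mul_comm]
    exact Nat.mul_le_mul h10 h3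
  have h14 := Nat.le_of_mul_le_mul_left h13 h12
  omega

end Cfsg.Agent.H850.Cod.Par
end

-- part: H850/Cod/Bad
section
/-!
# Orthogonal roots in a simply laced system of type `D_n`, `n ≥ 5` (helper850, S3539)

* `Good B Φ r s` : there is `d` with `(d, s) = 1`, `(d, r) = 0` (criterion of `H65.Laced.SSys.lc_orth`)
* `Bad B Φ α β` : configuration in `D₅` for the remaining pairs `±e_i + e_j`, `± e_i - e_j`
* `lc_bad` : lifts of root elements for such a pair commute
-/

set_option autoImplicit false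
set_option linter.unusedSectionVars false

namespace Cfsg.Agent.H850.Cod.BadPair

open scoped commutatorElement
open Cfsg.Agent.OddHalf.SL.Defs Cfsg.Agent.KFacts.Mult.Calc Cfsg.Agent.H65.Laced

variable {X L V F : Type*} [Group X] [Group L] [AddCommGroup V] [Field F]

/-- the orthogonal pair `(r, s)` can be separated -/
def Good (B : V → V → ℤ) (Φ : Set V) (r s : V) : Prop := ∃ d ∈ Φ, B d s = 1 ∧ B d r = 0

/-- the configuration for the other orthogonal pairs -/
def Bad (B : V → V → ℤ) (Φ : Set V) (α β : V) : Prop :=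
  ∃ ρ ∈ Φ, ∃ u ∈ Φ, B ρ β = -1 ∧ B ρ α = 1 ∧ B u β = 1 ∧ B ρ u = -1 ∧ B u α = -1 ∧
    Good B Φ (ρ + u) β ∧ Good B Φ (β - α + ρ) (β - u)

variable {B : V → V → ℤ} {Φ : Set V} {N : V → V → F} {x : V → F → L}

theorem lc_bad (S : SSys B Φ N x) {π : X →* L} (h : CE π) {α β : V} (hα : α ∈ Φ) (hβ : β ∈ Φ) (h0 : B α β = 0)
    (hb : Bad B Φ α β) (a b : F) : h.lc (x α a) (x β b) = 1 := by
  have hR := S.roots
  obtain ⟨ρ, hρ, u, hu, h1, h2, h3, h4, h5, ⟨d, hd, hd1, hd2⟩, ⟨d', hd', hd3, hd4⟩⟩ := hb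
  by_cases ha : a = 0
  · rw [ha, S.zero hα, h.lc_one_left]
  -- the inner products
  have sy := hR.symm
  have tα := hR.two α hα
  have tβ := hR.two β hβ
  have tρ := hR.two ρ hρ
  have tu := hR.two u hu
  have s1 : B β α = 0 := by rw [sy]; exact h0
  have s2 : B β ρ = -1 := by rw [sy]; exact h1
  have s3 : B α ρ = 1 := by rw [sy]; exact h2
  have s4 : B β u = 1 := by rw [sy]; exact h3
  have s5 : B u ρ = -1 := by rw [sy]; exact h4
  have s6 : B α u = -1 := by rw [sy]; exact h5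
  -- `τ = α - ρ`, `σ = β - τ`
  have hτ : α - ρ ∈ Φ := hR.sub_mem hα hρ s3
  have bτβ : B (α - ρ) β = 1 := by rw [hR.sub_left, h0, h1]; norm_num
  have hσ : β - (α - ρ) ∈ Φ := hR.sub_mem hβ hτ (by rw [sy]; exact bτβ)
  have eσ : β - (α - ρ) = β - α + ρ := by abel
  rw [eσ] at hσ
  set σ : V := β - α + ρ with hσdef
  set τ : V := α - ρ with hτdef
  have bρτ : B ρ τ = -1 := by rw [hτdef, hR.sub_right, h2, tρ]; norm_num
  have e1 : ρ + τ = α := by rw [hτdef]; abel
  have bσ : ∀ z, B σ z = B β z - B α z + B ρ z := fun z => by rw [hσdef, hR.add_left, hR.sub_left]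
  have bστ : B σ τ = -1 := by
    rw [bσ, sy β τ, bτβ, hτdef, hR.sub_right, hR.sub_right, tα, s3, h2, tρ]; norm_num
  have e2 : σ + τ = β := by rw [hσdef, hτdef]; abel
  have bσρ : B σ ρ = 0 := by rw [bσ, s2, s3, tρ]; norm_num
  have bσα : B σ α = -1 := by rw [bσ, s1, tα, h2]; norm_num
  -- `w = β - u`, `μ = ρ + u`, `u₂ = w - α`
  have hw : β - u ∈ Φ := hR.sub_mem hβ hu s4
  set w : V := β - u with hwdef
  have bw : ∀ z, B w z = B β z - B u z := fun z => by rw [hwdef, hR.sub_left]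
  have bwu : B w u = -1 := by rw [bw, s4, tu]; norm_num
  have e3 : w + u = β := by rw [hwdef]; abel
  have bwρ : B w ρ = 0 := by rw [bw, s2, s5]; norm_num
  have hμ : ρ + u ∈ Φ := hR.add ρ hρ u hu h4
  set μ : V := ρ + u with hμdef
  have bμ : ∀ z, B μ z = B ρ z + B u z := fun z => by rw [hμdef, hR.add_left]
  have bμβ : B μ β = 0 := by rw [bμ, h1, h3]; norm_num
  have bμα : B μ α = 0 := by rw [bμ, h2, h5]; norm_num
  have bwα : B w α = 1 := by rw [bw, s1, h5]; norm_num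
  have hu2 : w - α ∈ Φ := hR.sub_mem hw hα bwα
  set u₂ : V := w - α with hu2def
  have bαu2 : B α u₂ = -1 := by rw [hu2def, hR.sub_right, sy α w, bwα, tα]; norm_num
  have e4 : α + u₂ = w := by rw [hu2def]; abel
  have bμu2 : B μ u₂ = -1 := by
    rw [hu2def, hR.sub_right, bμα, sy μ w, bw, sy β μ, bμβ, sy u μ, bμ, h4, tu]; norm_num
  have e5 : μ + u₂ = σ := by rw [hμdef, hu2def, hwdef, hσdef]; abel
  have bσw : B σ w = 0 := by
    rw [sy, bw, sy β σ, sy u σ, bσ, bσ, tβ, h0, h1, s4, s6, h4]; norm_num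
  -- the elements
  have nρτ := S.ne ρ hρ τ hτ bρτ
  have nστ := S.ne σ hσ τ hτ bστ
  have nwu := S.ne w hw u hu bwu
  have nαu2 := S.ne α hα u₂ hu2 bαu2
  have nσα := S.ne σ hσ α hα bσα
  set r1 : F := (N ρ τ)⁻¹ * a with hr1
  set s0 : F := (N σ τ)⁻¹ * b with hs0
  set w1 : F := (N w u)⁻¹ * b with hw1
  set y : F := (N α u₂)⁻¹ * a⁻¹ * w1 with hy
  have c1 : ⁅x ρ r1, x τ 1⁆ = x α a := by
    rw [S.comm ρ hρ τ hτ bρτ, e1, mul_one, hr1, mul_inv_cancel_left₀ nρτ]
  have c2 : ⁅x σ s0, x τ 1⁆ = x β b := by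
    rw [S.comm σ hσ τ hτ bστ, e2, mul_one, hs0, mul_inv_cancel_left₀ nστ]
  have c3 : ⁅x w w1, x u 1⁆ = x β b := by
    rw [S.comm w hw u hu bwu, e3, mul_one, hw1, mul_inv_cancel_left₀ nwu]
  have c4 : ⁅x ρ r1, x u 1⁆ = x μ (N ρ u * (r1 * 1)) := S.comm ρ hρ u hu h4 _ _
  have c5 : ⁅x α a, x u₂ y⁆ = x w w1 := by
    rw [S.comm α hα u₂ hu2 bαu2, e4, hy]
    congr 1
    field_simp
  have c6 : ⁅x μ (N ρ u * (r1 * 1)), x u₂ y⁆ = x σ (N μ u₂ * (N ρ u * (r1 * 1) * y)) := by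
    rw [S.comm μ hμ u₂ hu2 bμu2, e5]
  set m : F := N ρ u * (r1 * 1) with hm
  set v : F := N μ u₂ * (m * y) with hv
  -- the three Hall–Witt identities
  have I1 := h.hw (a := x σ s0) (b := x τ 1) (c := x ρ r1) (S.one ρ hρ σ hσ (by rw [sy, bσρ]) _ _)
  rw [c1, c2] at I1
  have g1 : h.lc (x μ m) (x β b) = 1 := S.lc_orth h hμ hβ bμβ hd hd1 hd2 _ _
  have I2 := h.hw (a := x w w1) (b := x u 1) (c := x ρ r1) (S.one ρ hρ w hw (by rw [sy, bwρ]) _ _)
  rw [c3, c4, g1, mul_one] at I2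
  have g2 : h.lc (x σ v) (x w w1) = 1 := S.lc_orth h hσ hw bσw hd' hd3 hd4 _ _
  have I3 := h.hw (a := x α a) (b := x u₂ y) (c := x μ m) (S.one μ hμ α hα (by rw [bμα]) _ _)
  rw [c5, c6, g2, mul_one] at I3
  rw [h.lc_swap (x μ m) (x w w1), I3, ← h.lc_swap (x α a) (x σ v)] at I2
  rw [I2] at I1
  -- `v = s0`
  have hvs : v = s0 := by
    have e6 := congrArg π I1
    rw [map_mul, h.map_lc, h.map_lc, h.map_lc, commutatorElement_eq_one_iff_commute.2 (S.one α hα β hβ h0.ge a b),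
      mul_one, S.comm σ hσ α hα bσα, S.comm σ hσ α hα bσα] at e6
    have e7 := S.injective (hR.add σ hσ α hα bσα) e6
    exact mul_right_cancel₀ ha (mul_left_cancel₀ nσα e7)
  rw [hvs] at I1
  exact (left_eq_mul.1 I1)

end Cfsg.Agent.H850.Cod.BadPair
end

-- part: H850/Cod/Lift
section
/-!
# Lifting a simply laced system to central extensions (helper850, S3539)

`lift_of_root` : all orthogonal pairs are `Good` or `Bad` as soon as those `(r₀, s)` are, for one root `r₀`.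
-/

set_option autoImplicit false
set_option linter.unusedSectionVars false

namespace Cfsg.Agent.H850.Cod.Lift

open CoxeterSystem Cfsg.Agent.ChevalleyStructure.CoxeterGeom Cfsg.Agent.Tits.Roots Cfsg.Agent.Tits.Core
  Cfsg.Agent.Tits.RootComb Cfsg.Agent.Nodes.Comb Cfsg.Agent.Nodes.Reps Cfsg.Agent.Nodes.BNOf
  Cfsg.Agent.OddHalf.SL.Index Cfsg.Agent.OddHalf.SL Cfsg.Agent.KFacts
open Cfsg.Agent.OddHalf.SL.Defs Cfsg.Agent.KFacts.Mult.Calc Cfsg.Agent.H65.Laced Cfsg.Agent.H850.Cod.BadPair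
  Cfsg.Agent.KFacts.Mult.LacedRGD

variable {I W : Type*} [Fintype I] [DecidableEq I] [Group W] [Finite W] {M : CoxeterMatrix I} {cs : CoxeterSystem M W}
  {A : I → I → ℤ} {h : IsCartan M A}

section

variable (h4 : ∀ i j, M i j ≠ 4) (h6 : ∀ i j, M i j ≠ 6)

include h4 h6

theorem good_act (w : W) {r s : I → ℤ} (hg : Good (Bf A) {x | IsRoot cs h x} r s) :
    Good (Bf A) {x | IsRoot cs h x} (rep cs h w r) (rep cs h w s) := by
  obtain ⟨d, hd, h1, h2⟩ := hg
  exact ⟨rep cs h w d, IsRoot.act hd w, by rw [bf_rep h4 h6]; exact h1, by rw [bf_rep h4 h6]; exact h2⟩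

theorem bad_act (w : W) {r s : I → ℤ} (hb : Bad (Bf A) {x | IsRoot cs h x} r s) :
    Bad (Bf A) {x | IsRoot cs h x} (rep cs h w r) (rep cs h w s) := by
  obtain ⟨ρ, hρ, u, hu, h1, h2, h3, h4', h5, g1, g2⟩ := hb
  refine ⟨rep cs h w ρ, IsRoot.act hρ w, rep cs h w u, IsRoot.act hu w, ?_, ?_, ?_, ?_, ?_, ?_, ?_⟩
  · rw [bf_rep h4 h6]; exact h1
  · rw [bf_rep h4 h6]; exact h2
  · rw [bf_rep h4 h6]; exact h3
  · rw [bf_rep h4 h6]; exact h4'
  · rw [bf_rep h4 h6]; exact h5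
  · have := good_act h4 h6 w g1
    rwa [map_add] at this
  · have := good_act h4 h6 w g2
    rwa [map_add, map_sub, map_sub] at this

end

/-- the condition on the orthogonal pairs `(r, s)` -/
def PP (cs : CoxeterSystem M W) (h : IsCartan M A) (r : I → ℤ) : Prop :=
  ∀ s, IsRoot cs h s → Bf A r s = 0 → Good (Bf A) {x | IsRoot cs h x} r s ∨ Bad (Bf A) {x | IsRoot cs h x} r s

theorem PP.step (h4 : ∀ i j, M i j ≠ 4) (h6 : ∀ i j, M i j ≠ 6) {r s : I → ℤ} (hr : IsRoot cs h r)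
    (hs : IsRoot cs h s) (hrs : Bf A r s = 1) (hQ : PP cs h r) : PP cs h s := by
  obtain ⟨w, rfl⟩ := exists_refl h4 h6 hr hs hrs
  intro t ht h0
  have h1 : Bf A r (rep cs h w⁻¹ t) = 0 := by
    rw [← bf_rep (cs := cs) (h := h) h4 h6 w, rep_apply_inv]; exact h0
  rcases hQ _ (ht.act _) h1 with h2 | h2
  · left
    have := good_act h4 h6 w h2
    rwa [rep_apply_inv] at this
  · right
    have := bad_act h4 h6 w h2
    rwa [rep_apply_inv] at this

variable {K L X : Type*} [Field K] [Group L] [Group X] {N : (I → ℤ) → (I → ℤ) → K} {x : (I → ℤ) → K → L}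

/-- **lifting** -/
theorem lift_of_root (h4 : ∀ i j, M i j ≠ 4) (h6 : ∀ i j, M i j ≠ 6)
    (hirr : ∀ J : Set I, J.Nonempty → Jᶜ.Nonempty → ∃ i ∈ J, ∃ j ∈ Jᶜ, M i j ≠ 2) (h3 : 3 ≤ Fintype.card I)
    (S : SSys (Bf A) {x | IsRoot cs h x} N x) {r₀ : I → ℤ} (hr₀ : IsRoot cs h r₀) (hQ : PP cs h r₀)
    {π : X →* L} (hπ : CE π) :
    ∃ T : (I → ℤ) → K → X, SSys (Bf A) {x | IsRoot cs h x} N T ∧
      ∀ r ∈ {x | IsRoot cs h x}, ∀ a, π (T r a) = x r a := by
  have hR := S.roots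
  have h3' : Three (Bf A) {x | IsRoot cs h x} := Cfsg.Agent.OddHalf.SL.Index.three h4 h6 hirr h3
  have hne : ∀ r ∈ {x | IsRoot cs h x}, ∃ s ∈ {x | IsRoot cs h x}, Bf A s r = 1 := fun r hr =>
    exists_one h4 h6 hirr h3 hr
  have hall : ∀ r, IsRoot cs h r → PP cs h r := fun r hr =>
    ind h4 h6 hirr (by omega) hr₀ hQ (fun r s hr hs hrs hq => hq.step h4 h6 hr hs hrs) hr
  refine S.exists_lift hπ h3' (fun r hr s hs h0 a b => ?_) hne
  rcases h0.lt_or_eq with h1 | h1
  · exact S.lc_pos hπ h3' hne hr hs h1 a b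
  · rcases hall r hr s hs h1.symm with ⟨d, hd, h2, h4'⟩ | h2
    · exact S.lc_orth hπ hr hs h1.symm hd h2 h4' a b
    · exact lc_bad S hπ hr hs h1.symm h2 a b

end Cfsg.Agent.H850.Cod.Lift
end

-- part: H850/Cod/Filt
section
/-!
# The positive part of a simply laced system and its central extensions (helper850, S3539)

* `card_le` : the root elements for a finite set `P` of roots closed under addition generate a group of order at most
  `|F| ^ |P|`
* `split` : if the root elements of `P` generate a subgroup of order `|F| ^ |P|` of `YJ` and the whole system lifts to all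
  central extensions of `YJ`, then these split over it
-/

set_option autoImplicit false
set_option linter.unusedSectionVars false

universe u v w

namespace Cfsg.Agent.H850.Cod.Filt

open Subgroup
open scoped commutatorElement
open Cfsg.Agent.OddHalf.SL.Defs Cfsg.Agent.KFacts.Mult.Calc Cfsg.Agent.H65.Laced

variable {E V F : Type*} [Group E] [AddCommGroup V] [Field F] {B : V → V → ℤ} {Φ : Set V} {N : V → V → F}

/-- the group generated by the root elements of `P` -/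
def gp (T : V → F → E) (P : Set V) : Subgroup E := closure {g | ∃ r ∈ P, ∃ a, g = T r a}

theorem mem_gp {T : V → F → E} {P : Set V} {r : V} (hr : r ∈ P) (a : F) : T r a ∈ gp T P :=
  subset_closure ⟨r, hr, a, rfl⟩

theorem gp_le {T : V → F → E} {P : Set V} {H : Subgroup E} (h : ∀ r ∈ P, ∀ a, T r a ∈ H) : gp T P ≤ H := by
  rw [gp, closure_le]
  rintro g ⟨r, hr, a, rfl⟩
  exact h r hr a

/-- positive closed set of roots -/
structure PosSet (B : V → V → ℤ) (Φ : Set V) (ht : V → ℤ) (P : Finset V) : Prop where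
  sub : ∀ r ∈ P, r ∈ Φ
  add : ∀ r ∈ P, ∀ s ∈ P, B r s = -1 → r + s ∈ P
  pos : ∀ r ∈ P, 0 < ht r
  hadd : ∀ r s, ht (r + s) = ht r + ht s

theorem card_le [Finite F] {T : V → F → E} (S : SSys B Φ N T) {ht : V → ℤ} :
    ∀ {n : ℕ} {P : Finset V}, P.card = n → PosSet B Φ ht P → Finite (gp T P) ∧ Nat.card (gp T P) ≤ Nat.card F ^ n := by
  classical
  intro n
  induction n with
  | zero =>
    intro P hP _
    rw [Finset.card_eq_zero] at hP
    subst hP
    have h1 : gp T ((∅ : Finset V) : Set V) = ⊥ := by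
      rw [eq_bot_iff]
      exact gp_le fun r hr => absurd hr (by simp)
    rw [h1]
    exact ⟨inferInstance, by rw [Subgroup.card_bot, pow_zero]⟩
  | succ n ih =>
    intro P hP hPos
    have hR := S.roots
    obtain ⟨s, hs, hmin⟩ := Finset.exists_min_image P ht (Finset.card_pos.1 (by omega))
    have hPos' : PosSet B Φ ht (P.erase s) := by
      refine ⟨fun r hr => hPos.sub r (Finset.mem_of_mem_erase hr), fun r hr t ht' hB => ?_,
        fun r hr => hPos.pos r (Finset.mem_of_mem_erase hr), hPos.hadd⟩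
      have hr' := Finset.mem_of_mem_erase hr
      have ht'' := Finset.mem_of_mem_erase ht'
      refine Finset.mem_erase.2 ⟨?_, hPos.add r hr' t ht'' hB⟩
      intro h1
      have h2 := hPos.hadd r t
      have h3 := hPos.pos r hr'
      have h4 := hmin t ht''
      rw [h1] at h2
      omega
    obtain ⟨hfin, hcard⟩ := ih (P := P.erase s) (by rw [Finset.card_erase_of_mem hs]; omega) hPos'
    have hsΦ := hPos.sub s hs
    -- `T s a` normalises the group of the other roots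
    have hnorm : ∀ a : F, ∀ c ∈ gp T ((P.erase s : Finset V) : Set V), T s a * c * (T s a)⁻¹ ∈
        gp T ((P.erase s : Finset V) : Set V) := by
      intro a c hc
      have h1 : gp T ((P.erase s : Finset V) : Set V) ≤ (gp T ((P.erase s : Finset V) : Set V)).comap
          (MulAut.conj (T s a)).toMonoidHom := by
        refine gp_le fun r hr b => ?_
        have hr1 : r ∈ P.erase s := hr
        have hr' := Finset.mem_of_mem_erase hr1
        have hrΦ := hPos.sub r hr'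
        show T s a * T r b * (T s a)⁻¹ ∈ gp T ((P.erase s : Finset V) : Set V)
        by_cases h0 : 0 ≤ B s r
        · rw [(S.one s hsΦ r hrΦ h0 a b).eq, mul_inv_cancel_right]
          exact mem_gp hr b
        · have h2 := hR.ge hsΦ hrΦ
          have h3 : B s r = -1 := by
            by_contra h4
            have h5 : B s r = -2 := by omega
            have h6 := hR.eq_neg hsΦ hrΦ h5
            have h7 := hPos.pos s hs
            have h8 := hPos.pos r hr'
            have h9 := hPos.hadd s r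
            rw [h6, neg_add_cancel] at h9
            have h10 := hPos.hadd 0 0
            rw [add_zero] at h10
            rw [h6] at h7
            omega
          have h4 : s + r ∈ P.erase s := by
            refine Finset.mem_erase.2 ⟨?_, hPos.add s hs r hr' h3⟩
            intro h5
            have h6 := hPos.hadd s r
            have h7 := hPos.pos r hr'
            rw [h5] at h6
            omega
          have h5 : T s a * T r b * (T s a)⁻¹ = ⁅T s a, T r b⁆ * T r b := by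
            rw [commutatorElement_def]; group
          rw [h5, S.comm s hsΦ r hrΦ h3]
          exact mul_mem (mem_gp (Finset.mem_coe.2 h4) _) (mem_gp hr b)
      exact h1 hc
    -- decomposition
    have hdec : ∀ g ∈ gp T (P : Set V), ∃ a : F, ∃ c ∈ gp T ((P.erase s : Finset V) : Set V), g = T s a * c := by
      have hone : T s 0 = 1 := S.zero hsΦ
      let H : Subgroup E :=
        { carrier := {g | ∃ a : F, ∃ c ∈ gp T ((P.erase s : Finset V) : Set V), g = T s a * c}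
          one_mem' := ⟨0, 1, one_mem _, by rw [hone, one_mul]⟩
          mul_mem' := by
            rintro _ _ ⟨a, c, hc, rfl⟩ ⟨b, d, hd, rfl⟩
            refine ⟨a + b, (T s b)⁻¹ * c * T s b * d, mul_mem ?_ hd, ?_⟩
            · have := hnorm (-b) c hc
              rwa [S.neg hsΦ, inv_inv] at this
            · rw [S.add s hsΦ]; group
          inv_mem' := by
            rintro _ ⟨a, c, hc, rfl⟩
            refine ⟨-a, T s a * c⁻¹ * (T s a)⁻¹, hnorm a _ (inv_mem hc), ?_⟩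
            rw [S.neg hsΦ]; group }
      have h1 : gp T (P : Set V) ≤ H := by
        refine gp_le fun r hr a => ?_
        by_cases hrs : r = s
        · subst hrs
          exact ⟨a, 1, one_mem _, by rw [mul_one]⟩
        · exact ⟨0, T r a, mem_gp (Finset.mem_coe.2 (Finset.mem_erase.2 ⟨hrs, hr⟩)) a, by rw [hone, one_mul]⟩
      exact fun g hg => h1 hg
    have hsub : ∀ (a : F) (c : E), c ∈ gp T ((P.erase s : Finset V) : Set V) → T s a * c ∈ gp T (P : Set V) := by
      intro a c hc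
      refine mul_mem (mem_gp (Finset.mem_coe.2 hs) a) ?_
      exact gp_le (fun r hr b => mem_gp (Finset.mem_coe.2 (Finset.mem_of_mem_erase (Finset.mem_coe.1 hr))) b) hc
    let φ : F × gp T ((P.erase s : Finset V) : Set V) → gp T (P : Set V) := fun x => ⟨T s x.1 * x.2, hsub x.1 _ x.2.2⟩
    have hφ : Function.Surjective φ := by
      rintro ⟨g, hg⟩
      obtain ⟨a, c, hc, rfl⟩ := hdec g hg
      exact ⟨(a, ⟨c, hc⟩), rfl⟩
    refine ⟨Finite.of_surjective φ hφ, ?_⟩
    calc Nat.card (gp T (P : Set V)) ≤ Nat.card (F × gp T ((P.erase s : Finset V) : Set V)) :=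
          Nat.card_le_card_of_surjective φ hφ
      _ = Nat.card F * Nat.card (gp T ((P.erase s : Finset V) : Set V)) := Nat.card_prod _ _
      _ ≤ Nat.card F * Nat.card F ^ n := Nat.mul_le_mul_left _ hcard
      _ = Nat.card F ^ (n + 1) := by rw [pow_succ, mul_comm]

/-- **the central extensions of `YJ` split over the positive part** -/
theorem split {Y : Type v} [Group Y] [Finite Y] [Finite F] {YJ : Subgroup Y} {x : V → F → YJ} {ht : V → ℤ} {P : Finset V}
    (hP : PosSet B Φ ht P)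
    (hlift : ∀ (E : Type u) [Group E] [Finite E] (π : E →* YJ), CE π →
      ∃ T : V → F → E, SSys B Φ N T ∧ ∀ r ∈ Φ, ∀ a, π (T r a) = x r a)
    (hcard : Nat.card F ^ P.card ≤ Nat.card (gp (fun r a => (x r a : Y)) (P : Set V))) :
    Split.{u} YJ (gp (fun r a => (x r a : Y)) (P : Set V)) := by
  classical
  intro E _ _ π hπ
  obtain ⟨T, hT, hTx⟩ := hlift E π hπ
  refine ⟨gp T (P : Set V), ?_, ?_⟩
  · -- `π` is injective on it
    obtain ⟨-, h1⟩ := card_le hT rfl hP
    set V0 := gp T (P : Set V) with hV0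
    let f : V0 →* Y := (YJ.subtype.comp π).comp V0.subtype
    have hrange : f.range = gp (fun r a => (x r a : Y)) (P : Set V) := by
      apply le_antisymm
      · rintro _ ⟨⟨g, hg⟩, rfl⟩
        have h2 : V0 ≤ (gp (fun r a => (x r a : Y)) (P : Set V)).comap (YJ.subtype.comp π) := by
          refine gp_le fun r hr a => ?_
          show (π (T r a) : Y) ∈ gp (fun r a => (x r a : Y)) (P : Set V)
          rw [hTx r (hP.sub r hr)]
          exact mem_gp (T := fun r a => (x r a : Y)) hr a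
        exact h2 hg
      · refine gp_le fun r hr a => ⟨⟨T r a, mem_gp hr a⟩, ?_⟩
        show (π (T r a) : Y) = _
        rw [hTx r (hP.sub r hr)]
    have h2 : Nat.card V0 ≤ Nat.card f.range := by
      rw [hrange]
      exact h1.trans hcard
    have h3 : Function.Injective f := by
      have h4 : Function.Bijective f.rangeRestrict := by
        refine (Nat.bijective_iff_surjective_and_card f.rangeRestrict).2 ⟨f.rangeRestrict_surjective, le_antisymm h2 ?_⟩
        exact Nat.card_le_card_of_surjective f.rangeRestrict f.rangeRestrict_surjective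
      intro a b hab
      exact h4.1 (Subtype.ext hab)
    intro g hg hg1
    have h4 : f ⟨g, hg⟩ = f 1 := by
      show (π g : Y) = (π 1 : Y)
      rw [hg1, map_one]
    exact congrArg Subtype.val (h3 h4)
  · apply le_antisymm
    · rw [Subgroup.map_le_iff_le_comap]
      refine gp_le fun r hr a => ?_
      show (π (T r a) : Y) ∈ gp (fun r a => (x r a : Y)) (P : Set V)
      rw [hTx r (hP.sub r hr)]
      exact mem_gp (T := fun r a => (x r a : Y)) hr a
    · refine gp_le fun r hr a => ⟨T r a, mem_gp hr a, ?_⟩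
      show (π (T r a) : Y) = _
      rw [hTx r (hP.sub r hr)]

end Cfsg.Agent.H850.Cod.Filt
end

-- part: H850/Cod/Levi
section
/-!
# Standard Levi subgroups of simply laced Chevalley groups (helper850, S3539)

* `ssys_levi` : the system of root elements of a standard Levi subgroup, in its own coordinates
* `exists_split` : if this system lifts to all central extensions of the Levi subgroup `Y_J`, these split over
  `U ∩ Y_J`
-/

set_option autoImplicit false
set_option linter.unusedSectionVars false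

universe u v

namespace Cfsg.Agent.H850.Cod.Levi

open CoxeterSystem Cfsg.Agent.ChevalleyStructure.CoxeterGeom Cfsg.Agent.Tits.Roots Cfsg.Agent.Tits.Core
  Cfsg.Agent.Tits.RootComb Cfsg.Agent.Nodes.Comb Cfsg.Agent.Nodes.Reps Cfsg.Agent.Nodes.BNOf
  Cfsg.Agent.Nodes.StabComb Cfsg.Agent.Nodes.Bruhat Cfsg.Agent.Nodes.LeviDec Cfsg.Agent.Nodes.SubComb
  Cfsg.Agent.Nodes.Sub Cfsg.Agent.Nodes.Unique Cfsg.Agent.Nodes.CardSup Cfsg.Agent.Nodes.LeviStd
  Cfsg.Agent.OddHalf.SL.Index Cfsg.Agent.OddHalf.SL Cfsg.Agent.KFacts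
open Cfsg.Lie Cfsg.Agent.ChevalleyStructure.RootVecTab Cfsg.Agent.ChevalleyStructure.RootVec
  Cfsg.Agent.ChevalleyStructure.Elts Cfsg.Agent.ChevalleyStructure Cfsg.Agent.Nodes.RGDChev
  Cfsg.Agent.ChevalleyStructure.CoxeterGeomTypes
open Cfsg.Agent.OddHalf.SL.Defs Cfsg.Agent.KFacts.Mult.Calc Cfsg.Agent.H65.Laced Cfsg.Agent.H850.Cod.Filt
open scoped commutatorElement

section

variable {I J : Type*} [Fintype I] [DecidableEq I] [Fintype J] [DecidableEq J] {A : I → I → ℤ} {A' : J → J → ℤ}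

/-- the coordinates of the Levi subsystem -/
abbrev io (f : J ↪ I) (c : J → ℤ) : I → ℤ := iota (fun j => sr (f j)) c

theorem io_apply (f : J ↪ I) (c : J → ℤ) (j : J) : io f c (f j) = c j := iota_levi_apply f c j

theorem io_apply_ne (f : J ↪ I) (c : J → ℤ) {k : I} (hk : ∀ j, f j ≠ k) : io f c k = 0 := iota_levi_apply_ne f c hk

theorem pairing_io (f : J ↪ I) (hA : ∀ i j, A (f i) (f j) = A' i j) (j : J) (c : J → ℤ) :
    pairing A (f j) (io f c) = pairing A' j c := by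
  unfold pairing
  symm
  refine Fintype.sum_of_injective f f.injective _ _ (fun i hi => ?_) (fun k => ?_)
  · rw [io_apply_ne f c fun j hj => hi ⟨j, hj⟩, mul_zero]
  · rw [io_apply, hA]

theorem bf_io (f : J ↪ I) (hA : ∀ i j, A (f i) (f j) = A' i j) (c d : J → ℤ) :
    Bf A (io f c) (io f d) = Bf A' c d := by
  unfold Bf
  symm
  refine Fintype.sum_of_injective f f.injective _ _ (fun i hi => ?_) (fun k => ?_)
  · rw [io_apply_ne f d fun j hj => hi ⟨j, hj⟩, zero_mul]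
  · rw [io_apply, pairing_io f hA]

end

/-- the system only depends on the values on `Φ` -/
theorem ssys_of {V F Y Y' : Type*} [AddCommGroup V] [Field F] [Group Y] [Group Y'] {B : V → V → ℤ} {Φ : Set V}
    {N : V → V → F} {e : V → F → Y} {e' : V → F → Y'} (g : Y' →* Y) (hg : Function.Injective g)
    (he : ∀ r ∈ Φ, ∀ t, g (e' r t) = e r t) (S : SSys B Φ N e) : SSys B Φ N e' where
  roots := S.roots
  add r hr a b := hg (by rw [map_mul, he r hr, he r hr, he r hr]; exact S.add r hr a b)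
  inj r hr a ha := S.inj r hr a (by rw [← he r hr, ha, map_one])
  ne := S.ne
  comm r hr s hs hrs a b := hg (by
    rw [map_commutatorElement, he r hr, he s hs, he _ (S.roots.add r hr s hs hrs)]
    exact S.comm r hr s hs hrs a b)
  one r hr s hs hrs a b := by
    show _ * _ = _ * _
    apply hg
    rw [map_mul, map_mul, he r hr, he s hs]
    exact (S.one r hr s hs hrs a b).eq

section

variable {I J W W' Y F : Type*} [Fintype I] [DecidableEq I] [Fintype J] [DecidableEq J] [Group W] [Group W'] [Group Y]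
  [Field F] {M : CoxeterMatrix I} {M' : CoxeterMatrix J} {cs : CoxeterSystem M W} {cs' : CoxeterSystem M' W'}
  {A : I → I → ℤ} {A' : J → J → ℤ} {h : IsCartan M A} {h' : IsCartan M' A'} {N : (I → ℤ) → (I → ℤ) → F}
  {x : (I → ℤ) → F → Y}

/-- **the system of a standard Levi subgroup** -/
theorem ssys_levi [Finite W] (f : J ↪ I) (hM : ∀ i j, M (f i) (f j) = M' i j) (hA : ∀ i j, A (f i) (f j) = A' i j)
    (hR : Roots (Bf A') {c | IsRoot cs' h' c})
    (S : SSys (Bf A) {x | IsRoot cs h x} N x) :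
    SSys (Bf A') {c | IsRoot cs' h' c} (fun c d => N (io f c) (io f d)) (fun c => x (io f c)) := by
  have key : ∀ c, IsRoot cs' h' c → IsRoot cs h (io f c) := fun c hc =>
    ((mem_RootsJ_range_iff' (cs := cs) (h := h) f hM hA cs' h').2 ⟨c, hc, rfl⟩).1
  refine ⟨hR, fun r hr a b => S.add _ (key r hr) a b, fun r hr a ha => S.inj _ (key r hr) a ha,
    fun r hr s hs hB => S.ne _ (key r hr) _ (key s hs) (by rw [bf_io f hA]; exact hB), fun r hr s hs hB a b => ?_,
    fun r hr s hs hB a b => S.one _ (key r hr) _ (key s hs) (by rw [bf_io f hA]; exact hB) a b⟩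
  have h1 := S.comm _ (key r hr) _ (key s hs) (by rw [bf_io f hA]; exact hB) a b
  rw [h1, io, io, ← map_add]

end

section main

variable {D : ChevalleyDatum} {l : ℕ} {M : CoxeterMatrix (Fin l)} (hp : IsType D l M) {K : Type v} [Field K]
  [Fintype K] {W : Type*} [Group W] (cs : CoxeterSystem M W)
  {l' : ℕ} {M' : CoxeterMatrix (Fin l')} {W' : Type*} [Group W'] (cs' : CoxeterSystem M' W')
  {A' : Fin l' → Fin l' → ℤ} (h' : IsCartan M' A') (f : Fin l' ↪ Fin l)

/-- the root groups of `D.group K` -/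
abbrev XX (D : ChevalleyDatum) (l : ℕ) (K : Type v) [Field K] (x : Fin l → ℤ) : Subgroup ↥(D.group K) :=
  (XV D l K x).subgroupOf (D.group K)

/-- the Levi subgroup (without the torus) -/
abbrev YJ (K : Type v) [Field K] (J : Set (Fin l)) : Subgroup ↥(D.group K) :=
  RGD.Sup (XX D l K) (RootsJ cs hp.isCartan J)

/-- the root elements of the Levi subgroup -/
noncomputable def xJ (K : Type v) [Field K] (c : Fin l' → ℤ) (t : K) : ↥(YJ hp cs K (Set.range f)) := by
  classical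
  exact if hx : Mult.LacedE.eg (K := K) hp.inList l (io f c) t ∈ YJ hp cs K (Set.range f) then ⟨_, hx⟩ else 1

theorem eg_mem_XX {x : Fin l → ℤ} (hx : IsRoot cs hp.isCartan x) (t : K) :
    Mult.LacedE.eg (K := K) hp.inList l x t ∈ XX D l K x :=
  (Mult.LacedE.mem_X hp cs hx _).2 ⟨t, rfl⟩

variable (hM : ∀ i j, M (f i) (f j) = M' i j) (hA : ∀ i j, cartanOf D l (f i) (f j) = A' i j)

include hM hA in
theorem io_mem [Finite W] {c : Fin l' → ℤ} (hc : IsRoot cs' h' c) :
    io f c ∈ RootsJ cs hp.isCartan (Set.range f) :=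
  (mem_RootsJ_range_iff' (cs := cs) (h := hp.isCartan) f hM hA cs' h').2 ⟨c, hc, rfl⟩

include hM hA in
theorem coe_xJ [Finite W] {c : Fin l' → ℤ} (hc : IsRoot cs' h' c) (t : K) :
    (xJ hp cs f K c t : ↥(D.group K)) = Mult.LacedE.eg (K := K) hp.inList l (io f c) t := by
  have h1 := io_mem hp cs cs' h' f hM hA hc
  have h2 : Mult.LacedE.eg (K := K) hp.inList l (io f c) t ∈ YJ hp cs K (Set.range f) :=
    RGD.le_Sup (X := XX D l K) h1 (eg_mem_XX hp cs h1.1 t)
  unfold xJ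
  rw [dif_pos h2]

/-- the positive roots of the Levi subsystem -/
theorem finite_pos [Finite W'] : {c : Fin l' → ℤ | IsRoot cs' h' c ∧ 0 ≤ c}.Finite :=
  (RGD.finite_roots (cs := cs') (h := h')).subset fun _ hx => hx.1

include hM hA in
/-- **splitting** -/
theorem exists_split [Finite W] [Finite W'] {p : ℕ} [Fact p.Prime] [CharP K p]
    (hR : Roots (Bf A') {c | IsRoot cs' h' c}) {N' : (Fin l' → ℤ) → (Fin l' → ℤ) → K}
    (S' : SSys (Bf A') {c | IsRoot cs' h' c} N' (xJ hp cs f K))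
    (hlift : ∀ (E : Type u) [Group E] [Finite E] (π : E →* YJ hp cs K (Set.range f)), CE π →
      ∃ T : (Fin l' → ℤ) → K → E, SSys (Bf A') {c | IsRoot cs' h' c} N' T ∧
        ∀ r ∈ {c | IsRoot cs' h' c}, ∀ a, π (T r a) = xJ hp cs f K r a) :
    ∃ UJ : Subgroup ↥(D.group K), UJ ≤ RGD.Sup (XX D l K) (RGD.Pos cs hp.isCartan) ∧
      Nat.card (RGD.Sup (XX D l K) (PosJ cs hp.isCartan (Set.range f))) ≤ Nat.card UJ ∧
      Split.{u} (YJ hp cs K (Set.range f)) UJ := by
  classical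
  have R := rgd (K := K) hp cs p
  set P : Finset (Fin l' → ℤ) := (finite_pos cs' h').toFinset with hP
  have hPm : ∀ c, c ∈ P ↔ IsRoot cs' h' c ∧ 0 ≤ c := fun c => by rw [hP, Set.Finite.mem_toFinset]; rfl
  have hpos : PosSet (Bf A') {c | IsRoot cs' h' c} (fun c => ∑ j, c j) P := by
    refine ⟨fun r hr => ((hPm r).1 hr).1, fun r hr s hs hB => (hPm _).2
      ⟨hR.add r ((hPm r).1 hr).1 s ((hPm s).1 hs).1 hB, add_nonneg ((hPm r).1 hr).2 ((hPm s).1 hs).2⟩,
      fun r hr => ?_, fun r s => by simp [Finset.sum_add_distrib]⟩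
    obtain ⟨h1, h2⟩ := (hPm r).1 hr
    have h3 : r ≠ 0 := by
      rintro rfl
      have := hR.two 0 h1
      rw [hR.zero_left] at this
      omega
    obtain ⟨j, hj⟩ := Function.ne_iff.1 h3
    refine Finset.sum_pos' (fun i _ => h2 i) ⟨j, Finset.mem_univ j, lt_of_le_of_ne (h2 j) (Ne.symm hj)⟩
  set UJ := gp (fun r a => (xJ hp cs f K r a : ↥(D.group K))) (P : Set (Fin l' → ℤ)) with hUJ
  have hle : RGD.Sup (XX D l K) (PosJ cs hp.isCartan (Set.range f)) ≤ UJ := by
    refine RGD.Sup_le fun y hy => ?_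
    obtain ⟨c, hc, rfl⟩ := (mem_RootsJ_range_iff' (cs := cs) (h := hp.isCartan) f hM hA cs' h').1 ⟨hy.1, hy.2.2⟩
    have hc0 : 0 ≤ c := by
      intro j
      have h1 : (0 : ℤ) ≤ io f c (f j) := hy.2.1 (f j)
      rw [io_apply] at h1
      exact h1
    intro g hg
    obtain ⟨t, rfl⟩ := (Mult.LacedE.mem_X hp cs hy.1 g).1 hg
    rw [← coe_xJ hp cs cs' h' f hM hA hc]
    exact mem_gp (T := fun r a => (xJ hp cs f K r a : ↥(D.group K))) (Finset.mem_coe.2 ((hPm c).2 ⟨hc, hc0⟩)) t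
  have hinj : ∀ c ∈ P, io f c ∈ PosJ cs hp.isCartan (Set.range f) := by
    intro c hc
    obtain ⟨h1, h2⟩ := (hPm c).1 hc
    have h3 := io_mem hp cs cs' h' f hM hA h1
    refine ⟨h3.1, fun k => ?_, h3.2⟩
    by_cases hk : ∃ j, f j = k
    · obtain ⟨j, rfl⟩ := hk
      rw [io_apply]
      exact h2 j
    · push Not at hk
      rw [io_apply_ne f c hk]
      exact le_rfl
  have hcard : Nat.card K ^ P.card ≤ Nat.card (RGD.Sup (XX D l K) (PosJ cs hp.isCartan (Set.range f))) := by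
    have hfin : (PosJ cs hp.isCartan (Set.range f)).Finite :=
      (RGD.finite_roots (cs := cs) (h := hp.isCartan)).subset fun _ hx => hx.1
    set s : Finset (Fin l → ℤ) := hfin.toFinset with hs
    have hsc : (s : Set (Fin l → ℤ)) = PosJ cs hp.isCartan (Set.range f) := hfin.coe_toFinset
    have hcl : Closed cs hp.isCartan (PosJ cs hp.isCartan (Set.range f)) := by
      intro a ha b hb z hz
      have h1 : 0 ≤ z := RGD.nonneg_of_btwn ha.2.1 hb.2.1 hz
      refine ⟨hz.1, h1, fun k hk => ?_⟩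
      obtain ⟨-, m, a', b', hm, -, -, e⟩ := hz
      have e1 := congrFun e k
      simp only [Pi.smul_apply, Pi.add_apply, smul_eq_mul, ha.2.2 k hk, hb.2.2 k hk, mul_zero, add_zero] at e1
      rcases mul_eq_zero.1 e1 with h2 | h2
      · omega
      · exact h2
    have h1 := card_sup R (s := s) (by rw [hsc]; exact fun x hx => ⟨hx.1, hx.2.1⟩) (by rw [hsc]; exact hcl)
    rw [hsc] at h1
    have h2 : ∏ x ∈ s, Nat.card ↥(XX D l K x) = Fintype.card K ^ s.card := by
      rw [← Finset.prod_const]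
      refine Finset.prod_congr rfl fun x hx => H62.PPChev.card_X hp cs ?_
      have hx' : x ∈ PosJ cs hp.isCartan (Set.range f) := by rw [← hsc]; exact hx
      exact hx'.1
    rw [h1, h2, Nat.card_eq_fintype_card]
    refine Nat.pow_le_pow_right Fintype.card_pos ?_
    refine Finset.card_le_card_of_injOn (fun c => io f c) (fun c hc => ?_) (fun a _ b _ e => ?_)
    · rw [hsc]
      exact hinj c hc
    · funext j
      have := congrFun e (f j)
      simp only [io_apply] at this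
      exact this
  refine ⟨UJ, ?_, Subgroup.card_le_of_le hle, split hpos hlift (hcard.trans (Subgroup.card_le_of_le hle))⟩
  refine gp_le fun r hr a => ?_
  have h1 := (hPm r).1 hr
  have h2 := hinj r hr
  show (xJ hp cs f K r a : ↥(D.group K)) ∈ _
  rw [coe_xJ hp cs cs' h' f hM hA h1.1]
  exact RGD.le_Sup (X := XX D l K) (S := RGD.Pos cs hp.isCartan) ⟨h2.1, h2.2.1⟩ (eg_mem_XX hp cs h2.1 a)

end main

end Cfsg.Agent.H850.Cod.Levi
end

-- part: H850/Cod/LiftJ
section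
/-!
# Central extensions of the standard Levi subgroups `D₅ ⊂ E₆`, `E₆ ⊂ E₇`, `E₇ ⊂ E₈` (helper850, S3539)
-/

set_option autoImplicit false
set_option linter.unusedSectionVars false

universe u v

namespace Cfsg.Agent.H850.Cod.LiftJ

open CoxeterSystem Cfsg.Agent.ChevalleyStructure.CoxeterGeom Cfsg.Agent.Tits.Roots Cfsg.Agent.Tits.Core
  Cfsg.Agent.Tits.RootComb Cfsg.Agent.Nodes.Comb Cfsg.Agent.Nodes.Reps Cfsg.Agent.Nodes.BNOf
  Cfsg.Agent.Nodes.StabComb Cfsg.Agent.Nodes.Bruhat Cfsg.Agent.Nodes.LeviDec Cfsg.Agent.Nodes.SubComb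
  Cfsg.Agent.Nodes.Sub Cfsg.Agent.Nodes.Unique Cfsg.Agent.Nodes.CardSup Cfsg.Agent.Nodes.LeviStd
  Cfsg.Agent.OddHalf.SL.Index Cfsg.Agent.OddHalf.SL Cfsg.Agent.KFacts
open Cfsg.Lie Cfsg.Agent.ChevalleyStructure.RootVecTab Cfsg.Agent.ChevalleyStructure.RootVec
  Cfsg.Agent.ChevalleyStructure.Elts Cfsg.Agent.ChevalleyStructure Cfsg.Agent.Nodes.RGDChev
  Cfsg.Agent.ChevalleyStructure.CoxeterGeomTypes
open Cfsg.Agent.OddHalf.SL.Defs Cfsg.Agent.KFacts.Mult.Calc Cfsg.Agent.H65.Laced Cfsg.Agent.H850.Cod.Filt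
  Cfsg.Agent.H65.UnivE Cfsg.Agent.H850.Cod.Levi Cfsg.Agent.H850.Cod.Lift Cfsg.Agent.H850.Cod.BadPair
  Cfsg.Agent.KFacts.Mult.LacedE Cfsg.Agent.KFacts.Mult.LacedRGD

section

variable {D : ChevalleyDatum} {l : ℕ} {M : CoxeterMatrix (Fin l)} {k₁ r₁ : ℕ} (T : Typ D l M k₁ r₁) (K : Type v)
  [Field K] [Fintype K] {W : Type*} [Group W] (cs : CoxeterSystem M W) {l' : ℕ} {M' : CoxeterMatrix (Fin l')}
  {A' : Fin l' → Fin l' → ℤ} (h' : IsCartan M' A') (f : Fin l' ↪ Fin l)

theorem exists_UJ (hM : ∀ i j, M (f i) (f j) = M' i j) (hA : ∀ i j, cartanOf D l (f i) (f j) = A' i j)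
    (irr' : ∀ J : Set (Fin l'), J.Nonempty → Jᶜ.Nonempty → ∃ i ∈ J, ∃ j ∈ Jᶜ, M' i j ≠ 2) (h3' : 3 ≤ l')
    {r₀ : Fin l' → ℤ} (hr₀ : IsRoot M'.toCoxeterSystem h' r₀)
    (hQ : (∀ i j, M' i j ≠ 4) → (∀ i j, M' i j ≠ 6) → [Finite M'.Group] → PP M'.toCoxeterSystem h' r₀)
    {p : ℕ} [Fact p.Prime] [CharP K p] :
    ∃ UJ : Subgroup ↥(D.group K), UJ ≤ RGD.Sup (XX D l K) (RGD.Pos cs T.hp.isCartan) ∧
      Nat.card (RGD.Sup (XX D l K) (PosJ cs T.hp.isCartan (Set.range f))) ≤ Nat.card UJ ∧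
      Split.{u} (YJ T.hp cs K (Set.range f)) UJ := by
  have hW : Finite W := finite_W T.hp cs
  set cs' : CoxeterSystem M' M'.Group := M'.toCoxeterSystem with hcs'
  have hW' : Finite M'.Group := finite_of cs T.hp.isCartan f hM cs'
  have h4' : ∀ i j, M' i j ≠ 4 := fun i j => by rw [← hM]; exact T.four _ _
  have h6' : ∀ i j, M' i j ≠ 6 := fun i j => by rw [← hM]; exact T.six _ _
  have hR := roots cs' h' h4' h6'
  have S0 := Cfsg.Agent.H65.ChevSys.ssys (K := K) T.hp cs T.four T.six T.pm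
  have S1 := ssys_levi (cs := cs) (cs' := cs') (h := T.hp.isCartan) (h' := h') f hM hA hR S0
  have S2 := ssys_of (YJ T.hp cs K (Set.range f)).subtype (Subgroup.subtype_injective _)
    (e' := xJ T.hp cs f K) (fun r hr t => coe_xJ T.hp cs cs' h' f hM hA hr t) S1
  exact exists_split T.hp cs cs' h' f hM hA hR S2 fun E _ _ π hπ =>
    lift_of_root h4' h6' irr' (by rw [Fintype.card_fin]; exact h3') S2 hr₀ (hQ h4' h6') hπ

end

/-- the condition holds for the tabulated types `E₆`, `E₇`, `E₈` -/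
theorem PP_of_typ {D : ChevalleyDatum} {l : ℕ} {M : CoxeterMatrix (Fin l)} {k₁ r₁ : ℕ} (T : Typ D l M k₁ r₁)
    [Finite M.Group] : r₁ < D.nroots ∧ PP M.toCoxeterSystem T.hp.isCartan (vec D l r₁) := by
  obtain ⟨h0, hQ⟩ := Q_of_chk T.hp M.toCoxeterSystem T.one T.four T.six
  exact ⟨h0, fun s hs h1 => Or.inl (hQ s hs h1)⟩

section typ

variable {D : ChevalleyDatum} {l : ℕ} {M : CoxeterMatrix (Fin l)} {k₁ r₁ : ℕ} (T : Typ D l M k₁ r₁) (K : Type v)
  [Field K] [Fintype K] {W : Type*} [Group W] (cs : CoxeterSystem M W)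
  {D' : ChevalleyDatum} {l' : ℕ} {M' : CoxeterMatrix (Fin l')} {k₂ r₂ : ℕ} (T' : Typ D' l' M' k₂ r₂) (f : Fin l' ↪ Fin l)

include T' in
theorem exists_UJ_typ (hM : ∀ i j, M (f i) (f j) = M' i j)
    (hA : ∀ i j, cartanOf D l (f i) (f j) = cartanOf D' l' i j)
    {p : ℕ} [Fact p.Prime] [CharP K p] :
    ∃ UJ : Subgroup ↥(D.group K), UJ ≤ RGD.Sup (XX D l K) (RGD.Pos cs T.hp.isCartan) ∧
      Nat.card (RGD.Sup (XX D l K) (PosJ cs T.hp.isCartan (Set.range f))) ≤ Nat.card UJ ∧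
      Split.{u} (YJ T.hp cs K (Set.range f)) UJ := by
  have hW : Finite M'.Group := finite_W T'.hp M'.toCoxeterSystem
  exact exists_UJ T K cs T'.hp.isCartan f hM hA T'.irr T'.three (isRoot_vec T'.hp M'.toCoxeterSystem (PP_of_typ T').1)
    (fun _ _ _ => (PP_of_typ T').2)

end typ

theorem hM_E8 : ∀ i j : Fin 7, CoxeterMatrix.E₈ (Fin.castSuccEmb i) (Fin.castSuccEmb j) = CoxeterMatrix.E₇ i j := by
  intro i j; fin_cases i <;> fin_cases j <;> rfl
theorem hA_E8 : ∀ i j : Fin 7, cartanOf chevE8 8 (Fin.castSuccEmb i) (Fin.castSuccEmb j) = cartanOf chevE7 7 i j := by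
  (delta Cfsg.Agent.ChevalleyStructure.CoxeterGeomTypes.cartanOf; rewrite [Cfsg.Agent.ChevFast.E7.cartan, Cfsg.Agent.ChevFast.E8.cartan]; decide +kernel)
theorem hM_E7 : ∀ i j : Fin 6, CoxeterMatrix.E₇ (Fin.castSuccEmb i) (Fin.castSuccEmb j) = CoxeterMatrix.E₆ i j := by
  intro i j; fin_cases i <;> fin_cases j <;> rfl
theorem hA_E7 : ∀ i j : Fin 6, cartanOf chevE7 7 (Fin.castSuccEmb i) (Fin.castSuccEmb j) = cartanOf chevE6 6 i j := by
  (delta Cfsg.Agent.ChevalleyStructure.CoxeterGeomTypes.cartanOf; rewrite [Cfsg.Agent.ChevFast.E6.cartan, Cfsg.Agent.ChevFast.E7.cartan]; decide +kernel)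

end Cfsg.Agent.H850.Cod.LiftJ
end

-- part: H850/Cod/LiftD
section
/-!
# Central extensions of the standard Levi subgroups `D₅ ⊂ E₆` (helper850, S3539)
-/

set_option autoImplicit false
set_option linter.unusedSectionVars false

universe u v

namespace Cfsg.Agent.H850.Cod.LiftD

open CoxeterSystem Cfsg.Agent.ChevalleyStructure.CoxeterGeom Cfsg.Agent.Tits.Roots Cfsg.Agent.Tits.Core
  Cfsg.Agent.Tits.RootComb Cfsg.Agent.Nodes.Comb Cfsg.Agent.Nodes.Reps Cfsg.Agent.Nodes.BNOf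
  Cfsg.Agent.Nodes.StabComb Cfsg.Agent.Nodes.Bruhat Cfsg.Agent.Nodes.LeviDec Cfsg.Agent.Nodes.SubComb
  Cfsg.Agent.Nodes.Sub Cfsg.Agent.Nodes.Unique Cfsg.Agent.Nodes.CardSup Cfsg.Agent.Nodes.LeviStd
  Cfsg.Agent.OddHalf.SL.Index Cfsg.Agent.OddHalf.SL Cfsg.Agent.KFacts
open Cfsg.Lie Cfsg.Agent.ChevalleyStructure.RootVecTab Cfsg.Agent.ChevalleyStructure.RootVec
  Cfsg.Agent.ChevalleyStructure.Elts Cfsg.Agent.ChevalleyStructure Cfsg.Agent.Nodes.RGDChev
  Cfsg.Agent.ChevalleyStructure.CoxeterGeomTypes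
open Cfsg.Agent.OddHalf.SL.Defs Cfsg.Agent.KFacts.Mult.Calc Cfsg.Agent.H65.Laced Cfsg.Agent.H850.Cod.Filt
  Cfsg.Agent.H65.UnivE Cfsg.Agent.H850.Cod.Levi Cfsg.Agent.H850.Cod.Lift Cfsg.Agent.H850.Cod.BadPair
  Cfsg.Agent.KFacts.Mult.LacedE Cfsg.Agent.KFacts.Mult.LacedRGD Cfsg.Agent.H850.Cod.LiftJ

/-- the Levi subsystem in `E₆` -/
abbrev MD (f : Fin 5 ↪ Fin 6) : CoxeterMatrix (Fin 5) := leviMatrix f CoxeterMatrix.E₆

/-- its Cartan matrix -/
abbrev AD (f : Fin 5 ↪ Fin 6) (i j : Fin 5) : ℤ := cartanOf chevE6 6 (f i) (f j)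

theorem hpE6 : IsType chevE6 6 CoxeterMatrix.E₆ := typE6.hp

theorem isCartanD (f : Fin 5 ↪ Fin 6) : IsCartan (MD f) (AD f) := levi_isCartan f typE6.hp.isCartan

/-- the vector in the coordinates of the subsystem -/
def cv (f : Fin 5 ↪ Fin 6) (n : ℕ) (j : Fin 5) : ℤ := vec chevE6 6 n (f j)

theorem isRoot_iota' (f : Fin 5 ↪ Fin 6) {c : Fin 5 → ℤ} : IsRoot (MD f).toCoxeterSystem (isCartanD f) c ↔
    IsRoot CoxeterMatrix.E₆.toCoxeterSystem hpE6.isCartan (io f c) := by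
  have hW : Finite CoxeterMatrix.E₆.Group := finite_W hpE6 CoxeterMatrix.E₆.toCoxeterSystem
  constructor
  · intro hc
    exact (levi_subSys (cs := CoxeterMatrix.E₆.toCoxeterSystem) (h := hpE6.isCartan) f).isRoot_iota hc
  · intro hc
    refine (levi_subSys (cs := CoxeterMatrix.E₆.toCoxeterSystem) (h := hpE6.isCartan) f).isRoot_of_iota
      (MD f).toCoxeterSystem (isCartanD f) ?_ hc
    intro c hc
    obtain ⟨d, hd, hs⟩ := levi_base (cs := CoxeterMatrix.E₆.toCoxeterSystem) (h := hpE6.isCartan) f _ hc 1 one_pos c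
      (one_smul _ _)
    rwa [(levi_subSys (cs := CoxeterMatrix.E₆.toCoxeterSystem) (h := hpE6.isCartan) f).iota_injective hd]

/-- check: every root orthogonal to `r₀` forms an angle of 60 or 120 degrees with some simple root orthogonal to `r₀`, or
it is `s₁` or `s₂` -/
def chkB (f : Fin 5 ↪ Fin 6) (i : Fin 6) (r₀ s₁ s₂ : Fin 5 → ℤ) (n : ℕ) : Bool :=
  decide (vec chevE6 6 n i ≠ 0) || decide (Bf (AD f) r₀ (cv f n) ≠ 0) ||
    ((List.finRange 5).any fun j => decide (pairing (AD f) j r₀ = 0) && (decide (pairing (AD f) j (cv f n) = 1) ||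
      decide (pairing (AD f) j (cv f n) = -1))) ||
    decide (cv f n = s₁) || decide (cv f n = s₂)

/-- a configuration as in `Bad` -/
def Wit (f : Fin 5 ↪ Fin 6) (r s ρ u d : Fin 5 → ℤ) : Prop :=
  Bf (AD f) ρ s = -1 ∧ Bf (AD f) ρ r = 1 ∧ Bf (AD f) u s = 1 ∧ Bf (AD f) ρ u = -1 ∧
      Bf (AD f) u r = -1 ∧ Bf (AD f) d s = 1 ∧ Bf (AD f) d (ρ + u) = 0 ∧ Bf (AD f) d (s - u) = 1 ∧
      Bf (AD f) d (s - r + ρ) = 0

instance decWit (f : Fin 5 ↪ Fin 6) (r s ρ u d : Fin 5 → ℤ) : Decidable (Wit f r s ρ u d) := by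
  unfold Wit
  infer_instance

theorem nroots_E6 : chevE6.nroots = 72 := by decide +kernel

section

variable (f : Fin 5 ↪ Fin 6) (i : Fin 6) (hi : ∀ k, k = i ∨ ∃ j, f j = k) (hi' : ∀ j, f j ≠ i)

include hi hi'

theorem root_iff {c : Fin 5 → ℤ} : IsRoot (MD f).toCoxeterSystem (isCartanD f) c ↔
    ∃ n < 72, vec chevE6 6 n i = 0 ∧ c = cv f n := by
  rw [isRoot_iota', isRoot_iff hpE6 CoxeterMatrix.E₆.toCoxeterSystem, nroots_E6]
  constructor
  · rintro ⟨n, hn, h1⟩
    refine ⟨n, hn, ?_, ?_⟩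
    · rw [h1, io_apply_ne f c hi']
    · funext j
      rw [cv, h1, io_apply]
  · rintro ⟨n, hn, h0, rfl⟩
    refine ⟨n, hn, ?_⟩
    funext k
    rcases hi k with rfl | ⟨j, rfl⟩
    · rw [h0, io_apply_ne f _ hi']
    · rw [io_apply, cv]

theorem PPD {r₀ s₁ s₂ ρ₁ u₁ d₁ ρ₂ u₂ d₂ : Fin 5 → ℤ}
    (hr : ∀ c ∈ [r₀, ρ₁, u₁, d₁, ρ₂, u₂, d₂], ∃ n < 72, vec chevE6 6 n i = 0 ∧ c = cv f n)
    (hchk : (List.range 72).all (chkB f i r₀ s₁ s₂) = true) (h1 : Wit f r₀ s₁ ρ₁ u₁ d₁) (h2 : Wit f r₀ s₂ ρ₂ u₂ d₂)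
    (h4 : ∀ i j, MD f i j ≠ 4) (h6 : ∀ i j, MD f i j ≠ 6) [Finite (MD f).Group] :
    PP (MD f).toCoxeterSystem (isCartanD f) r₀ := by
  have hR := roots (MD f).toCoxeterSystem (isCartanD f) h4 h6
  have key : ∀ c ∈ [r₀, ρ₁, u₁, d₁, ρ₂, u₂, d₂], IsRoot (MD f).toCoxeterSystem (isCartanD f) c := fun c hc =>
    (root_iff f i hi hi').2 (hr c hc)
  intro s hs h0
  obtain ⟨n, hn, hn0, rfl⟩ := (root_iff f i hi hi').1 hs
  have h3 := List.all_eq_true.1 hchk n (List.mem_range.2 hn)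
  simp only [chkB, Bool.or_eq_true, decide_eq_true_eq, Bool.and_eq_true, List.any_eq_true] at h3
  rcases h3 with (((h3 | h3) | ⟨j, -, h3, h5⟩) | h3) | h3
  · exact absurd hn0 h3
  · exact absurd h0 h3
  · left
    have hj : IsRoot (MD f).toCoxeterSystem (isCartanD f) (sr j) := isRoot_sr _ _ j
    have e1 : Bf (AD f) (sr j) (cv f n) = pairing (AD f) j (cv f n) := by rw [hR.symm, bf_sr]
    have e2 : Bf (AD f) (sr j) r₀ = 0 := by rw [hR.symm, bf_sr, h3]
    rcases h5 with h5 | h5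
    · exact ⟨sr j, hj, by rw [e1, h5], e2⟩
    · exact ⟨-sr j, hj.neg, by rw [hR.neg_left, e1, h5]; norm_num, by rw [hR.neg_left, e2, neg_zero]⟩
  · right
    obtain ⟨a1, a2, a3, a4, a5, a6, a7, a8, a9⟩ := h1
    rw [h3]
    exact ⟨ρ₁, key _ (by simp), u₁, key _ (by simp), a1, a2, a3, a4, a5, ⟨d₁, key _ (by simp), a6, a7⟩,
      ⟨d₁, key _ (by simp), a8, a9⟩⟩
  · right
    obtain ⟨a1, a2, a3, a4, a5, a6, a7, a8, a9⟩ := h2
    rw [h3]
    exact ⟨ρ₂, key _ (by simp), u₂, key _ (by simp), a1, a2, a3, a4, a5, ⟨d₂, key _ (by simp), a6, a7⟩,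
      ⟨d₂, key _ (by simp), a8, a9⟩⟩

end

theorem hr1 : ∀ c ∈ [(![1, 1, 2, 2, 1] : Fin 5 → ℤ), ![0, 1, 1, 2, 1], ![0, 0, -1, -1, 0], ![1, 1, 1, 1, 0],
    ![1, 1, 1, 2, 1], ![-1, 0, -1, -1, 0], ![0, 1, 1, 1, 0]],
    ∃ n < 72, vec chevE6 6 n 5 = 0 ∧ c = cv Fin.castSuccEmb n := by decide +kernel

theorem hr2 : ∀ c ∈ [(![1, 1, 2, 2, 1] : Fin 5 → ℤ), ![1, 1, 2, 1, 0], ![0, 0, -1, -1, 0], ![1, 0, 1, 1, 1],
    ![1, 1, 2, 1, 1], ![0, 0, -1, -1, -1], ![1, 0, 1, 1, 0]],
    ∃ n < 72, vec chevE6 6 n 0 = 0 ∧ c = cv (Fin.succEmb 5) n := by decide +kernel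

theorem hc1 : (List.range 72).all (chkB Fin.castSuccEmb 5 ![1, 1, 2, 2, 1] ![1, 0, 0, 0, 0] ![-1, 0, 0, 0, 0]) = true := by
  (delta Cfsg.Agent.ChevalleyStructure.CoxeterGeomTypes.cartanOf Cfsg.Agent.H850.Cod.LiftD.AD Cfsg.Agent.H850.Cod.LiftD.chkB; rewrite [Cfsg.Agent.ChevFast.E6.cartan]; decide +kernel)

theorem hc2 : (List.range 72).all (chkB (Fin.succEmb 5) 0 ![1, 1, 2, 2, 1] ![0, 0, 0, 0, 1] ![0, 0, 0, 0, -1]) = true := by
  decide +kernel

theorem w11 : Wit Fin.castSuccEmb ![1, 1, 2, 2, 1] ![1, 0, 0, 0, 0] ![0, 1, 1, 2, 1] ![0, 0, -1, -1, 0]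
    ![1, 1, 1, 1, 0] := by decide +kernel
theorem w12 : Wit Fin.castSuccEmb ![1, 1, 2, 2, 1] ![-1, 0, 0, 0, 0] ![1, 1, 1, 2, 1] ![-1, 0, -1, -1, 0]
    ![0, 1, 1, 1, 0] := by decide +kernel
theorem w21 : Wit (Fin.succEmb 5) ![1, 1, 2, 2, 1] ![0, 0, 0, 0, 1] ![1, 1, 2, 1, 0] ![0, 0, -1, -1, 0]
    ![1, 0, 1, 1, 1] := by (refine of_decide_eq_true ?_; delta Cfsg.Agent.ChevalleyStructure.CoxeterGeomTypes.cartanOf Cfsg.Agent.H850.Cod.LiftD.AD Cfsg.Agent.H850.Cod.LiftD.Wit Cfsg.Agent.H850.Cod.LiftD.decWit; rewrite [Cfsg.Agent.ChevFast.E6.cartan]; decide +kernel)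
theorem w22 : Wit (Fin.succEmb 5) ![1, 1, 2, 2, 1] ![0, 0, 0, 0, -1] ![1, 1, 2, 1, 1] ![0, 0, -1, -1, -1]
    ![1, 0, 1, 1, 0] := by decide +kernel

theorem irr1 : ∀ J : Set (Fin 5), J.Nonempty → Jᶜ.Nonempty → ∃ i ∈ J, ∃ j ∈ Jᶜ, MD Fin.castSuccEmb i j ≠ 2 := by
  refine irr_of_tree 3 ![2, 1, 1, 0, 1] ![2, 3, 3, 3, 3] ?_
  intro i; fin_cases i <;> simp [CoxeterMatrix.E₆, leviMatrix]

theorem irr2 : ∀ J : Set (Fin 5), J.Nonempty → Jᶜ.Nonempty → ∃ i ∈ J, ∃ j ∈ Jᶜ, MD (Fin.succEmb 5) i j ≠ 2 := by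
  refine irr_of_tree 2 ![1, 1, 0, 1, 2] ![2, 2, 2, 2, 3] ?_
  intro i; fin_cases i <;> simp [CoxeterMatrix.E₆, leviMatrix]

section main

variable (K : Type v) [Field K] [Fintype K] {W : Type*} [Group W] (cs : CoxeterSystem CoxeterMatrix.E₆ W)

theorem exists_UJ_5 (p : ℕ) [Fact p.Prime] [CharP K p] :
    ∃ UJ : Subgroup ↥(chevE6.group K), UJ ≤ RGD.Sup (XX chevE6 6 K) (RGD.Pos cs hpE6.isCartan) ∧
      Nat.card (RGD.Sup (XX chevE6 6 K) (PosJ cs hpE6.isCartan (Set.range (Fin.castSuccEmb : Fin 5 ↪ Fin 6)))) ≤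
        Nat.card UJ ∧
      Split.{u} (YJ hpE6 cs K (Set.range (Fin.castSuccEmb : Fin 5 ↪ Fin 6))) UJ := by
  have hi : ∀ k : Fin 6, k = 5 ∨ ∃ j : Fin 5, Fin.castSuccEmb j = k := by decide
  have hi' : ∀ j : Fin 5, Fin.castSuccEmb j ≠ (5 : Fin 6) := by decide
  exact exists_UJ typE6 K (p := p) cs (isCartanD Fin.castSuccEmb) Fin.castSuccEmb (fun _ _ => rfl) (fun _ _ => rfl) irr1
    (by norm_num) ((root_iff Fin.castSuccEmb 5 hi hi').2 (hr1 _ (by simp)))
    (fun h4 h6 _ => PPD Fin.castSuccEmb 5 hi hi' hr1 hc1 w11 w12 h4 h6)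

theorem exists_UJ_0 (p : ℕ) [Fact p.Prime] [CharP K p] :
    ∃ UJ : Subgroup ↥(chevE6.group K), UJ ≤ RGD.Sup (XX chevE6 6 K) (RGD.Pos cs hpE6.isCartan) ∧
      Nat.card (RGD.Sup (XX chevE6 6 K) (PosJ cs hpE6.isCartan (Set.range (Fin.succEmb 5)))) ≤ Nat.card UJ ∧
      Split.{u} (YJ hpE6 cs K (Set.range (Fin.succEmb 5))) UJ := by
  have hi : ∀ k : Fin 6, k = 0 ∨ ∃ j : Fin 5, Fin.succEmb 5 j = k := by decide
  have hi' : ∀ j : Fin 5, Fin.succEmb 5 j ≠ (0 : Fin 6) := by decide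
  exact exists_UJ typE6 K (p := p) cs (isCartanD (Fin.succEmb 5)) (Fin.succEmb 5) (fun _ _ => rfl) (fun _ _ => rfl) irr2
    (by norm_num) ((root_iff (Fin.succEmb 5) 0 hi hi').2 (hr2 _ (by simp)))
    (fun h4 h6 _ => PPD (Fin.succEmb 5) 0 hi hi' hr2 hc2 w21 w22 h4 h6)

end main

end Cfsg.Agent.H850.Cod.LiftD
end

-- part: H850/Cod/Char
section
/-!
# Noncentral minimal normal `p`-subgroups over `F₄(q)`, `E₆(q)`, `E₇(q)`, `E₈(q)`, `q` a power of `p` (helper850, S3539)
-/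

set_option autoImplicit false
set_option linter.unusedSectionVars false

universe u v

namespace Cfsg.Agent.H850.Cod.Char

open CoxeterSystem Cfsg.Agent.ChevalleyStructure.CoxeterGeom Cfsg.Agent.Tits.Roots Cfsg.Agent.Tits.Core
  Cfsg.Agent.Nodes.Reps Cfsg.Agent.Nodes.BNOf Cfsg.Agent.Nodes.Bruhat Cfsg.Agent.Nodes.LeviDec
  Cfsg.Agent.Nodes.StabComb Cfsg.Agent.Nodes.Unique Cfsg.Agent.Nodes.CardSup Cfsg.Agent.Nodes.RGDChev
  Cfsg.Agent.H62.PPIdx Cfsg.Agent.H62.PPChev
open Cfsg.Lie Cfsg.Agent.ChevalleyStructure Cfsg.Agent.ChevalleyStructure.Elts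
  Cfsg.Agent.ChevalleyStructure.RootVec
open Cfsg Cfsg.Agent.Characters.Core Cfsg.Agent.H686.CharKit
open Cfsg.Agent.H850.Cod.Levi Cfsg.Agent.H850.Cod.Par Cfsg.Agent.H65.UnivE Cfsg.Agent.H850.Cod.LiftJ
  Cfsg.Agent.H850.Cod.LiftD

section

variable {D : ChevalleyDatum} {l : ℕ} {M : CoxeterMatrix (Fin l)} (hp : IsType D l M) {K : Type v} [Field K]
  [Fintype K] {W : Type*} [Group W] (cs : CoxeterSystem M W)

include hp in
theorem pow_le_card_VJ_of [Finite W] (r : ℕ) [Fact r.Prime] [CharP K r] (J : Set (Fin l)) {m : ℕ} (b : ℕ → Bool)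
    (hb : ∀ s < D.nroots, b s = true → ∃ k : Fin l, k ∉ J ∧ 0 < rt D s k)
    (hm : m ≤ ((List.range D.nroots).filter b).length) :
    Fintype.card K ^ m ≤ Nat.card (VJ cs hp.isCartan (XX D l K) J) := by
  classical
  have R := rgd (K := K) hp cs r
  have hfin : (NotJ cs hp.isCartan J).Finite :=
    (RGD.finite_roots (cs := cs) (h := hp.isCartan)).subset fun _ hx => hx.1
  set s : Finset (Fin l → ℤ) := hfin.toFinset with hs
  have hsc : (s : Set (Fin l → ℤ)) = NotJ cs hp.isCartan J := hfin.coe_toFinset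
  have h3 : Nat.card (VJ cs hp.isCartan (XX D l K) J) = ∏ x ∈ s, Nat.card ↥(XX D l K x) := by
    have := card_sup R (s := s) (by rw [hsc]; exact fun x hx => ⟨hx.1, hx.2.1⟩) (by rw [hsc]; exact closed_NotJ _)
    rw [← this, hsc]
    rfl
  have h4 : ∏ x ∈ s, Nat.card ↥(XX D l K x) = Fintype.card K ^ s.card := by
    rw [← Finset.prod_const]
    refine Finset.prod_congr rfl fun x hx => card_X hp cs ?_
    have hx' : x ∈ NotJ cs hp.isCartan J := by rw [← hsc]; exact hx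
    exact hx'.1
  rw [h3, h4]
  refine Nat.pow_le_pow_right Fintype.card_pos (hm.trans ?_)
  have h5 : ((List.range D.nroots).filter b).length = (((List.range D.nroots).filter b).toFinset).card := by
    rw [List.toFinset_card_of_nodup (List.nodup_range.filter _)]
  rw [h5]
  refine Finset.card_le_card_of_injOn (fun r => vec D l r) ?_ ?_
  · intro r hr
    rw [Finset.mem_coe, List.mem_toFinset, List.mem_filter, List.mem_range] at hr
    obtain ⟨k, hk, hk0⟩ := hb r hr.1 hr.2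
    rw [hsc]
    have h6 := isRoot_vec hp cs hr.1
    exact ⟨h6, nonneg_of_pos_apply h6 (k := k) hk0, k, hk, hk0⟩
  · intro a ha b hb e
    rw [Finset.mem_coe, List.mem_toFinset, List.mem_filter, List.mem_range] at ha hb
    exact vec_inj hp ha.1 hb.1 e

/-- the number of roots with positive `i`-th or `j`-th coordinate -/
def num2 (D : ChevalleyDatum) (i j : ℕ) : ℕ :=
  ((List.range D.nroots).filter fun r => decide (0 < rt D r i) || decide (0 < rt D r j)).length

end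

theorem not_dvd_prod {p q : ℕ} (hp : p.Prime) (hq : p ∣ q) (hq0 : q ≠ 0) (ds : List ℕ) (hds : ∀ d ∈ ds, d ≠ 0) :
    ¬ p ∣ (ds.map fun d => q ^ d - 1).prod := by
  intro h
  rw [Prime.dvd_prod_iff hp.prime] at h
  obtain ⟨a, ha, h1⟩ := h
  rw [List.mem_map] at ha
  obtain ⟨d, hd, rfl⟩ := ha
  have h2 : p ∣ q ^ d := dvd_pow hq (hds d hd)
  have h3 : 1 ≤ q ^ d := Nat.pos_of_ne_zero (pow_ne_zero _ hq0)
  have h4 := (Nat.dvd_sub_iff_right h3 h2).1 h1
  exact hp.one_lt.ne' (Nat.dvd_one.1 h4)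

section

variable {D : ChevalleyDatum} {l : ℕ} {M : CoxeterMatrix (Fin l)} (hp : IsType D l M) (K : Type v) [Field K]
  [Fintype K]

/-- the condition on a node -/
def NodeOK (N : ℕ) (i : Fin l) : Prop :=
  N ≤ 2 * num D i ∨ ((∀ j : Fin l, j ≠ i → N ≤ 2 * num2 D i j) ∧
    ∃ UJ : Subgroup ↥(D.group K), UJ ≤ RGD.Sup (XX D l K) (RGD.Pos M.toCoxeterSystem hp.isCartan) ∧
        Nat.card (RGD.Sup (XX D l K) (PosJ M.toCoxeterSystem hp.isCartan {i}ᶜ)) ≤ Nat.card UJ ∧
        Split.{u} (RGD.Sup (XX D l K) (RootsJ M.toCoxeterSystem hp.isCartan {i}ᶜ)) UJ)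

variable {K} in
/-- **the general form** -/
theorem char_of (p : ℕ) [hpp : Fact p.Prime] [CharP K p] {N : ℕ} {ds : List ℕ} (hds : ∀ d ∈ ds, d ≠ 0)
    (hcard : Nat.card ↥(D.group K) ∣ Fintype.card K ^ N * (ds.map fun d => Fintype.card K ^ d - 1).prod)
    (hnode : ∀ i : Fin l, NodeOK.{u} hp K N i)
    {G : Type u} [Group G] [Finite G] (A : Subgroup G) [hA : A.Normal] {f : G →* ↥(D.group K)}
    (hf : Function.Surjective f) (hk : ∀ g, f g = 1 ↔ g ∈ A) (hA1 : A ≠ ⊥)
    (hmin : ∀ J : Subgroup G, J.Normal → J ≤ A → J = ⊥ ∨ J = A)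
    (hab : ∀ x ∈ A, ∀ y ∈ A, Commute x y) (hnc : ¬ A ≤ Subgroup.center G) (hAp : IsPGroup p A)
    (hsq : Nat.card A ^ 2 ∣ Nat.card ↥(D.group K))
    (hdeg : ∀ χ : IrrCharacter G, ¬ A ≤ chKer χ → Nat.card A ∣ charDegree (χ : G → ℂ)) : False := by
  let cs : CoxeterSystem M M.Group := M.toCoxeterSystem
  have hW : Finite M.Group := finite_W hp cs
  have R := rgd (K := K) hp cs p
  obtain ⟨k, hk'⟩ := IsPGroup.iff_card.1 hAp
  obtain ⟨n, -, hn⟩ := FiniteField.card K p
  have hpq : p ∣ Fintype.card K := by rw [hn]; exact dvd_pow_self p n.ne_zero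
  have h1 : Nat.card A ^ 2 ∣ Fintype.card K ^ N := by
    refine Nat.Coprime.dvd_of_dvd_mul_right ?_ (hsq.trans hcard)
    rw [hk', ← pow_mul]
    exact Nat.Coprime.pow_left _ ((Nat.Prime.coprime_iff_not_dvd hpp.out).2
      (not_dvd_prod hpp.out hpq Fintype.card_ne_zero ds hds))
  have h2 : Nat.card A ^ 2 ≤ Fintype.card K ^ N := Nat.le_of_dvd (pow_pos Fintype.card_pos N) h1
  obtain ⟨S, hS1, hS2, hS3, hS4⟩ := core A hf hk hA1 hmin hab hnc hAp hdeg R.isPGroup_Upos
  refine final R (G1_eq_top hp cs (K := K)) hS1 hS2 hk' h2 hS3 hS4 fun i => ?_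
  rcases hnode i with h3 | ⟨h3, h4⟩
  · left
    refine le_trans ?_ (Nat.pow_le_pow_left (pow_le_card_VJ hp cs p i le_rfl) 2)
    rw [← pow_mul]
    exact Nat.pow_le_pow_right Fintype.card_pos (by omega)
  · right
    refine ⟨fun j hj => ?_, h4⟩
    refine le_trans ?_ (Nat.pow_le_pow_left (pow_le_card_VJ_of hp cs p {i, j}ᶜ (m := num2 D i j)
      (fun r => decide (0 < rt D r i) || decide (0 < rt D r j)) (fun s _ hs => ?_) le_rfl) 2)
    · rw [← pow_mul]
      exact Nat.pow_le_pow_right Fintype.card_pos (by have := h3 j hj; omega)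
    · rw [Bool.or_eq_true, decide_eq_true_eq, decide_eq_true_eq] at hs
      rcases hs with hs | hs
      · exact ⟨i, by simp, hs⟩
      · exact ⟨j, by simp, hs⟩

end

end Cfsg.Agent.H850.Cod.Char
end

-- part: H850/Cod/CharFour
section
/-!
# Noncentral minimal normal `p`-subgroups: `F₄`, `E₆`, `E₇`, `E₈` (helper850, S3539)

`char_four` : the result.
-/

set_option autoImplicit false
set_option linter.unusedSectionVars false

universe u v

namespace Cfsg.Agent.H850.Cod.Char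

open CoxeterSystem Cfsg.Agent.ChevalleyStructure.CoxeterGeom Cfsg.Agent.Tits.Roots Cfsg.Agent.Tits.Core
  Cfsg.Agent.Nodes.Reps Cfsg.Agent.Nodes.BNOf Cfsg.Agent.Nodes.Bruhat Cfsg.Agent.Nodes.LeviDec
  Cfsg.Agent.Nodes.StabComb Cfsg.Agent.Nodes.Unique Cfsg.Agent.Nodes.CardSup Cfsg.Agent.Nodes.RGDChev
  Cfsg.Agent.H62.PPIdx Cfsg.Agent.H62.PPChev
open Cfsg.Lie Cfsg.Agent.ChevalleyStructure Cfsg.Agent.ChevalleyStructure.Elts
  Cfsg.Agent.ChevalleyStructure.RootVec
open Cfsg Cfsg.Agent.Characters.Core Cfsg.Agent.H686.CharKit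
open Cfsg.Agent.H850.Cod.Levi Cfsg.Agent.H850.Cod.Par Cfsg.Agent.H65.UnivE Cfsg.Agent.H850.Cod.LiftJ
  Cfsg.Agent.H850.Cod.LiftD

theorem range_castSucc (n : ℕ) : Set.range (Fin.castSuccEmb : Fin n ↪ Fin (n + 1)) = {Fin.last n}ᶜ := by
  ext k
  rw [Set.mem_compl_iff, Set.mem_singleton_iff]
  constructor
  · rintro ⟨j, rfl⟩
    exact (Fin.castSucc_lt_last j).ne
  · intro hk
    exact ⟨k.castPred hk, Fin.castSucc_castPred k hk⟩

theorem range_succ (n : ℕ) : Set.range (Fin.succEmb n) = {(0 : Fin (n + 1))}ᶜ := by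
  ext k
  rw [Set.mem_compl_iff, Set.mem_singleton_iff]
  constructor
  · rintro ⟨j, rfl⟩
    exact Fin.succ_ne_zero j
  · intro hk
    exact ⟨k.pred hk, Fin.succ_pred k hk⟩

section

variable (K : Type v) [Field K] [Fintype K]

theorem f4OK : ∀ i : Fin 4, 24 ≤ 2 * num chevF4 i := by decide +kernel

theorem e6OK : ∀ i : Fin 6, i = 0 ∨ i = 5 ∨ 36 ≤ 2 * num chevE6 i := by decide +kernel
theorem e6OK0 : ∀ j : Fin 6, j ≠ 0 → 36 ≤ 2 * num2 chevE6 (0 : Fin 6) j := by decide +kernel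
theorem e6OK5 : ∀ j : Fin 6, j ≠ 5 → 36 ≤ 2 * num2 chevE6 (5 : Fin 6) j := by decide +kernel

theorem e7OK : ∀ i : Fin 7, i = 6 ∨ 63 ≤ 2 * num chevE7 i := by decide +kernel
theorem e7OK6 : ∀ j : Fin 7, j ≠ 6 → 63 ≤ 2 * num2 chevE7 (6 : Fin 7) j := by decide +kernel

theorem e8OK : ∀ i : Fin 8, i = 7 ∨ 120 ≤ 2 * num chevE8 i := by (open scoped Cfsg.Agent.ChevFast.Lin in decide +kernel)
theorem e8OK7 : ∀ j : Fin 8, j ≠ 7 → 120 ≤ 2 * num2 chevE8 (7 : Fin 8) j := by decide +kernel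

theorem nodeE6 (p : ℕ) [Fact p.Prime] [CharP K p] (i : Fin 6) : NodeOK.{u} typE6.hp K 36 i := by
  rcases e6OK i with rfl | rfl | h
  · right
    refine ⟨e6OK0, ?_⟩
    rw [← range_succ 5]
    exact exists_UJ_0 K _ p
  · right
    refine ⟨e6OK5, ?_⟩
    rw [show ({5}ᶜ : Set (Fin 6)) = Set.range (Fin.castSuccEmb : Fin 5 ↪ Fin 6) from (range_castSucc 5).symm]
    exact exists_UJ_5 K _ p
  · exact Or.inl h

theorem nodeE7 (p : ℕ) [Fact p.Prime] [CharP K p] (i : Fin 7) : NodeOK.{u} typE7.hp K 63 i := by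
  rcases e7OK i with rfl | h
  · right
    refine ⟨e7OK6, ?_⟩
    rw [show ({6}ᶜ : Set (Fin 7)) = Set.range (Fin.castSuccEmb : Fin 6 ↪ Fin 7) from (range_castSucc 6).symm]
    exact exists_UJ_typ typE7 K _ typE6 Fin.castSuccEmb hM_E7 hA_E7 (p := p)
  · exact Or.inl h

theorem nodeE8 (p : ℕ) [Fact p.Prime] [CharP K p] (i : Fin 8) : NodeOK.{u} typE8.hp K 120 i := by
  rcases e8OK i with rfl | h
  · right
    refine ⟨e8OK7, ?_⟩
    rw [show ({7}ᶜ : Set (Fin 8)) = Set.range (Fin.castSuccEmb : Fin 7 ↪ Fin 8) from (range_castSucc 7).symm]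
    exact exists_UJ_typ typE8 K _ typE7 Fin.castSuccEmb hM_E8 hA_E8 (p := p)
  · exact Or.inl h

end

variable {K : Type v} [Field K] [Fintype K]

/-- **noncentral minimal normal `p`-subgroups** -/
theorem char_four (p : ℕ) [hpp : Fact p.Prime] [CharP K p] {D : ChevalleyDatum}
    (hD : D ∈ [chevF4, chevE6, chevE7, chevE8])
    {G : Type u} [Group G] [Finite G] (A : Subgroup G) [hA : A.Normal] {f : G →* ↥(D.group K)}
    (hf : Function.Surjective f) (hk : ∀ g, f g = 1 ↔ g ∈ A) (hA1 : A ≠ ⊥)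
    (hmin : ∀ J : Subgroup G, J.Normal → J ≤ A → J = ⊥ ∨ J = A)
    (hab : ∀ x ∈ A, ∀ y ∈ A, Commute x y) (hnc : ¬ A ≤ Subgroup.center G) (hAp : IsPGroup p A)
    (hsq : Nat.card A ^ 2 ∣ Nat.card ↥(D.group K))
    (hdeg : ∀ χ : IrrCharacter G, ¬ A ≤ chKer χ → Nat.card A ∣ charDegree (χ : G → ℂ)) : False := by
  simp only [List.mem_cons, List.not_mem_nil, or_false] at hD
  rcases hD with rfl | rfl | rfl | rfl
  · refine char_of (M := CoxeterMatrix.F₄) (by simp [IsType, typeList]) p (N := 24) (ds := [2, 6, 8, 12]) (by decide) ?_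
      (fun i => Or.inl (f4OK i)) A hf hk hA1 hmin hab hnc hAp hsq hdeg
    rw [Cfsg.Agent.S1062.result (F := K) rfl]
    refine dvd_of_eq ?_
    simp only [List.map_cons, List.map_nil, List.prod_cons, List.prod_nil]
    ring
  · refine char_of typE6.hp p (N := 36) (ds := [2, 5, 6, 8, 9, 12]) (by decide) ?_
      (nodeE6 K p) A hf hk hA1 hmin hab hnc hAp hsq hdeg
    refine Dvd.intro_left (Nat.gcd 3 (Fintype.card K - 1)) ?_
    rw [Cfsg.Agent.S1063.result (F := K) rfl]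
    simp only [List.map_cons, List.map_nil, List.prod_cons, List.prod_nil]
    ring
  · refine char_of typE7.hp p (N := 63) (ds := [2, 6, 8, 10, 12, 14, 18]) (by decide) ?_
      (nodeE7 K p) A hf hk hA1 hmin hab hnc hAp hsq hdeg
    refine Dvd.intro_left (Nat.gcd 2 (Fintype.card K - 1)) ?_
    rw [Cfsg.Agent.S1064.result (F := K) rfl]
    simp only [List.map_cons, List.map_nil, List.prod_cons, List.prod_nil]
    ring
  · refine char_of typE8.hp p (N := 120) (ds := [2, 8, 12, 14, 18, 20, 24, 30]) (by decide) ?_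
      (nodeE8 K p) A hf hk hA1 hmin hab hnc hAp hsq hdeg
    rw [Cfsg.Agent.S1065.result (F := K) rfl]
    refine dvd_of_eq ?_
    simp only [List.map_cons, List.map_nil, List.prod_cons, List.prod_nil]
    ring

end Cfsg.Agent.H850.Cod.Char
end

-- part: H850/Cod/CharOK
section
/-!
# The noncentral case, defining characteristic (helper850, S3539)

* `c1` : the situation of `NoncentralOK` with `M` a `p`-group
* `noncentralOK_of` : `NoncentralOK` from the other characteristics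
-/

set_option autoImplicit false
set_option linter.unusedSectionVars false

universe u v

namespace Cfsg.Agent.H850.Cod

open Cfsg Cfsg.Lie Cfsg.Agent.Characters.Core Cfsg.Agent.H686.CharKit Subgroup

variable {F : Type v} [Field F] [Finite F]

/-- **noncentral minimal normal `p`-subgroups over `F₄(q)`, `E₆(q)`, `E₇(q)`, `E₈(q)`, `q` a power of `p`** -/
theorem c1 (p : ℕ) [Fact p.Prime] [CharP F p] {D : ChevalleyDatum} (hD : D ∈ [chevF4, chevE6, chevE7, chevE8])
    {G : Type u} [Group G] [Finite G] (M : Subgroup G) [hM : M.Normal] (e : G ⧸ M ≃* ↥(D.group F)) (hM1 : M ≠ ⊥)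
    (hmin : ∀ J : Subgroup G, J.Normal → J ≤ M → J = ⊥ ∨ J = M) (hab : ∀ x ∈ M, ∀ y ∈ M, Commute x y)
    (hnc : ¬ M ≤ center G) (hsq : Nat.card M ^ 2 ∣ Nat.card ↥(D.group F))
    (hdeg : ∀ χ : IrrCharacter G, ¬ M ≤ chKer χ → ∃ d : ℕ, NDeg ↥(D.group F) d ∧
      charDegree (χ : G → ℂ) = Nat.card M * d) (hMp : IsPGroup p M) : False := by
  have := Fintype.ofFinite F
  refine Char.char_four (K := F) p hD M (f := e.toMonoidHom.comp (QuotientGroup.mk' M)) ?_ (fun g => ?_) hM1 hmin hab hnc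
    hMp hsq fun χ hχ => ?_
  · exact e.surjective.comp (QuotientGroup.mk'_surjective M)
  · show e (QuotientGroup.mk g) = 1 ↔ _
    rw [map_eq_one_iff e e.injective, QuotientGroup.eq_one_iff]
  · obtain ⟨d, -, hd⟩ := hdeg χ hχ
    exact ⟨d, hd⟩

end Cfsg.Agent.H850.Cod
end

private theorem dce_74202698b164 : _root_.True := by
  try have : _root_.True := by simp only [_root_.Cfsg.Agent.Nodes.Sub.leviMatrix.eq_1]
  try have : _root_.True := by simp only [_root_.Cfsg.Agent.H850.Cod.Filt.gp.eq_1]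
  try have : _root_.True := by simp only [_root_.Cfsg.Agent.H850.Cod.LiftD.cv.eq_1]
  try have : _root_.True := by simp only [_root_.Cfsg.Agent.H850.Cod.LiftD.chkB.eq_1]
  try have : _root_.True := by simp only [_root_.Cfsg.Agent.H850.Cod.Levi.io.congr_simp]
  try have : _root_.True := by simp only [_root_.Cfsg.Agent.H850.Cod.Levi.io.eq_1]
  exact _root_.True.intro
end

-- part: H380/Cod/Lift
section
set_option linter.all false
open scoped Cfsg.Agent.FastGrp

/-!
# Lifting an odd cyclic torus to a central extension by a group of order two (helper380, S3539)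
-/

set_option autoImplicit false

namespace Cfsg.Agent.H380.Cod.Lift

open Subgroup

variable {G L : Type*} [Group G] [Finite G] [Group L] [Finite L] {M : Subgroup G} [M.Normal] (e : G ⧸ M ≃* L)

/-- the projection -/
def pr : G →* L := e.toMonoidHom.comp (QuotientGroup.mk' M)

theorem pr_surj : Function.Surjective (pr e) := e.surjective.comp (QuotientGroup.mk'_surjective M)

theorem pr_eq_one {g : G} : pr e g = 1 ↔ g ∈ M := by
  show e (QuotientGroup.mk' M g) = 1 ↔ _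
  rw [MulEquiv.map_eq_one_iff, QuotientGroup.mk'_apply, QuotientGroup.eq_one_iff]

/-- elements of odd order lift -/
theorem exists_lift (hM : Nat.card ↥M = 2) {t : L} {N : ℕ} (hN : Odd N) (ht : orderOf t = N) :
    ∃ u : G, orderOf u = N ∧ pr e u = t := by
  obtain ⟨g, rfl⟩ := pr_surj e t
  have h1 : g ^ N ∈ M := by
    rw [← pr_eq_one e, map_pow, ← ht, pow_orderOf_eq_one]
  have h2 : (g ^ N) ^ 2 = 1 := by
    have := pow_card_eq_one' (x := (⟨g ^ N, h1⟩ : M))
    rw [hM] at this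
    exact congrArg Subtype.val this
  obtain ⟨k, hk⟩ := hN
  refine ⟨g ^ (N + 1), ?_, ?_⟩
  · apply Nat.dvd_antisymm
    · rw [orderOf_dvd_iff_pow_eq_one, ← pow_mul, show (N + 1) * N = N * 2 * (k + 1) by rw [hk]; ring, pow_mul, pow_mul,
        h2, one_pow]
    · have h3 : orderOf (pr e (g ^ (N + 1))) ∣ orderOf (g ^ (N + 1)) := orderOf_map_dvd _ _
      have h4 : pr e (g ^ (N + 1)) = pr e g := by
        rw [map_pow, pow_succ, ← ht, pow_orderOf_eq_one, one_mul]
      rwa [h4, ht] at h3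
  · rw [map_pow, pow_succ, ← ht, pow_orderOf_eq_one, one_mul]

theorem orderOf_pr_dvd (g : G) : orderOf (pr e g) ∣ orderOf g := orderOf_map_dvd _ _

/-- elements of odd prime order keep their order -/
theorem orderOf_pr (hM : Nat.card ↥M = 2) {y : G} {r : ℕ} (hr : r.Prime) (hr2 : r ≠ 2) (hy : orderOf y = r) :
    orderOf (pr e y) = r := by
  rcases (Nat.dvd_prime hr).1 (hy ▸ orderOf_pr_dvd e y) with h | h
  · exfalso
    rw [orderOf_eq_one_iff, pr_eq_one] at h
    have h1 : orderOf (⟨y, h⟩ : M) ∣ 2 := by rw [← hM]; exact orderOf_dvd_natCard _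
    rw [Subgroup.orderOf_mk, hy] at h1
    exact hr2 ((Nat.prime_dvd_prime_iff_eq hr Nat.prime_two).1 h1)
  · exact h

/-- the preimage of a torus -/
def Cb (T : Subgroup L) : Subgroup G := T.comap (pr e)

theorem mem_Cb {T : Subgroup L} {g : G} : g ∈ Cb e T ↔ pr e g ∈ T := Iff.rfl

theorem card_Cb (hM : Nat.card ↥M = 2) (T : Subgroup L) : Nat.card ↥(Cb e T) = 2 * Nat.card ↥T := by
  have h1 := Subgroup.index_comap_of_surjective T (pr_surj e)
  have h2 := Subgroup.card_mul_index (Cb e T)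
  have h3 := Subgroup.card_mul_index T
  have h4 : Nat.card G = 2 * Nat.card L := by
    rw [Subgroup.card_eq_card_quotient_mul_card_subgroup M, hM, Nat.card_congr e.toEquiv, mul_comm]
  have h5 : (Cb e T).index = T.index := h1
  rw [h5, h4, ← h3, ← mul_assoc] at h2
  exact Nat.eq_of_mul_eq_mul_right (Nat.pos_of_ne_zero T.index_ne_zero_of_finite) h2

theorem comm_Cb (hM : M ≤ center G) {T : Subgroup L} (hT : IsCyclic ↥T) {a b : G} (ha : a ∈ Cb e T) (hb : b ∈ Cb e T) :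
    a * b = b * a := by
  obtain ⟨⟨t, ht⟩, hgen⟩ := hT.exists_generator
  obtain ⟨u, rfl⟩ := pr_surj e t
  have key : ∀ a ∈ Cb e T, ∃ (i : ℤ) (z : G), z ∈ M ∧ a = u ^ i * z := by
    intro a ha
    obtain ⟨i, hi⟩ := hgen ⟨pr e a, ha⟩
    have hi' : (pr e u) ^ i = pr e a := congrArg Subtype.val hi
    refine ⟨i, (u ^ i)⁻¹ * a, ?_, by group⟩
    rw [← pr_eq_one e, map_mul, map_inv, map_zpow, hi', inv_mul_cancel]
  obtain ⟨i, z, hz, rfl⟩ := key a ha
  obtain ⟨j, z', hz', rfl⟩ := key b hb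
  have c1 : ∀ x, z * x = x * z := fun x => ((mem_center_iff.1 (hM hz)) x).symm
  have c2 : ∀ x, z' * x = x * z' := fun x => ((mem_center_iff.1 (hM hz')) x).symm
  calc u ^ i * z * (u ^ j * z') = u ^ i * (z * u ^ j) * z' := by group
    _ = u ^ i * u ^ j * (z * z') := by rw [c1]; group
    _ = u ^ j * u ^ i * (z' * z) := by rw [← zpow_add, add_comm, zpow_add, c1]
    _ = u ^ j * (u ^ i * z') * z := by group
    _ = u ^ j * z' * (u ^ i * z) := by rw [← c2]; group

/-- centralisers in the extension -/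
theorem cent_le (hM : Nat.card ↥M = 2) {T : Subgroup L} {r : ℕ} (hr : r.Prime) (hr2 : r ≠ 2)
    (hc : ∀ y ∈ T, orderOf y = r → centralizer {y} ≤ T) {y : G} (hy : y ∈ Cb e T) (hyr : orderOf y = r) :
    centralizer {y} ≤ Cb e T := by
  intro g hg
  rw [mem_Cb]
  refine hc _ hy (orderOf_pr e hM hr hr2 hyr) ?_
  rw [mem_centralizer_singleton_iff] at hg ⊢
  rw [← map_mul, ← map_mul, hg]

end Cfsg.Agent.H380.Cod.Lift
end
end
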