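import Cfsg.Agent.H850.Cod.CharOK_m3
import Cfsg.Agent.H719.CodC2
import Cfsg.Agent.Prune
set_option linter.all false
prune_inst 0x7f00000000000000000000000000000000000000000000000000000000000000000000000000000000000000000000000000000000000000000000000000000000000000000000000000000000000000003fffffffffffffffffffffffffffbeffbdffffffff

/-!
# The noncentral case for `F₄(q)`, `E₆(q)`, `E₇(q)`, `E₈(q)` (helper850, S3539)

`noncentralOK` : from helper719's `H719.CodC2.cross` and `c1`.
-/

set_option autoImplicit false

universe u v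

namespace Cfsg.Agent.H850.Cod

open Cfsg Cfsg.Lie

/-- **the noncentral case** -/
theorem noncentralOK {F : Type v} [Field F] [Fintype F] {D : ChevalleyDatum}
    (hD : D ∈ [chevF4, chevE6, chevE7, chevE8]) [IsSimpleGroup (D.group F)] : NoncentralOK.{u} ↥(D.group F) := by
  intro G _ _ M _ e _ hM1 hmin hab hnc hsq hdeg
  obtain ⟨p, hp⟩ := CharP.exists F
  have hpp : p.Prime := CharP.char_is_prime F p
  have : Fact p.Prime := ⟨hpp⟩
  obtain ⟨m, hm, -⟩ := H719.CodC2.cross hD M e hM1 hmin hab hnc hsq hpp
  exact c1 p hD M e hM1 hmin hab hnc hsq hdeg (IsPGroup.of_card hm)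

end Cfsg.Agent.H850.Cod
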